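import Cfsg.Agent.Lib.PrimeElusive.SymplType

/-!
An absolutely irreducible symplectic-type 2-group in `GL₄` with centre of order 4 has order 64, for a prime at least 5.
-/

set_option autoImplicit false
set_option linter.unusedSectionVars false

namespace CfsgLib.FrameSix

open Matrix CfsgLib.PrimeElusive.SymplType

open scoped MatrixGroups commutatorElement

variable {F : Type*} [Field F] [Fintype F] {R : Subgroup (GL (Fin 4) F)}

theorem trace_zero_of_not_central (hs : Cfsg.Geo.IsSymplecticTypeGroup 2 R)
    (hi : Cfsg.Geo.ActsAbsolutelyIrreducibly (Cfsg.Geo.matrixSet R)) {g : R} (hg : g ∉ Subgroup.center R) :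
    (mt (g : GL (Fin 4) F)).trace = 0 := by
  have hexp : ∀ q : R, q ^ 4 = 1 := fun q => by
    have := Monoid.pow_exponent_eq_one q
    rw [hs.exponent_eq] at this
    exact this
  have hprops := CfsgLib.SymplecticFour.commutator_props R hs.pGroup hs.cyclic_of_characteristic hexp
  obtain ⟨h, hgh⟩ : ∃ h : R, h * g ≠ g * h := by
    rw [Subgroup.mem_center_iff] at hg
    push Not at hg
    exact hg
  obtain ⟨ε, hε⟩ := (mem_center_iff hi _).1 (hprops h g).1
  have hε1 : ε ≠ 1 := by
    rintro rfl
    refine hgh (commutatorElement_eq_one_iff_mul_comm.1 (Subtype.ext (Units.ext ?_)))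
    rw [show ((⁅h, g⁆ : R) : GL (Fin 4) F).val = mt ((⁅h, g⁆ : R) : GL (Fin 4) F) from rfl, hε, one_smul]
    rfl
  have e : mt (h : GL (Fin 4) F) * mt (g : GL (Fin 4) F) * mt (h : GL (Fin 4) F)⁻¹ = ε • mt (g : GL (Fin 4) F) := by
    have e1 : (h : GL (Fin 4) F) * g * (h : GL (Fin 4) F)⁻¹ = ((⁅h, g⁆ : R) : GL (Fin 4) F) * g := by
      simp only [commutatorElement_def, Subgroup.coe_mul, Subgroup.coe_inv]; group
    have := congrArg Units.val e1
    simp only [Units.val_mul] at this
    refine this.trans ?_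
    show mt ((⁅h, g⁆ : R) : GL (Fin 4) F) * mt (g : GL (Fin 4) F) = _
    rw [hε, smul_mul_assoc, one_mul]
  have := congrArg Matrix.trace e
  rw [Matrix.trace_mul_cycle, ← Units.val_mul, inv_mul_cancel, Units.val_one, one_mul, Matrix.trace_smul,
    smul_eq_mul] at this
  exact (mul_eq_zero.1 (show (1 - ε) * (mt (g : GL (Fin 4) F)).trace = 0 by linear_combination this)).resolve_left
    (sub_ne_zero.2 (Ne.symm hε1))

theorem card_congr_order (h2 : (2 : F) ≠ 0) (hs : Cfsg.Geo.IsSymplecticTypeGroup 2 R)
    (hi : Cfsg.Geo.ActsAbsolutelyIrreducibly (Cfsg.Geo.matrixSet R)) (hz : Nat.card (Subgroup.center R) = 4) :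
    (Nat.card R : F) = 64 := by
  classical
  have : Finite R := inferInstance
  have := Fintype.ofFinite R
  have h4 : (4 : F) ≠ 0 := by rw [show (4 : F) = 2 * 2 by norm_num]; exact mul_ne_zero h2 h2
  have hS : ∀ i j : Fin 4, ∃ cij : F, (∀ a b, ∑ g : R, mt (g : GL (Fin 4) F) a i * mt (g : GL (Fin 4) F)⁻¹ j b =
      if a = b then cij else 0) ∧ 4 * cij = if i = j then (Nat.card R : F) else 0 := by
    intro i j
    set E : Matrix (Fin 4) (Fin 4) F := Matrix.single i j 1 with hE
    obtain ⟨cij, hc⟩ := hi.2 (∑ g : R, mt (g : GL (Fin 4) F) * E * mt (g : GL (Fin 4) F)⁻¹) (by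
      rintro _ ⟨h, hh, rfl⟩
      rw [Finset.sum_mul, Finset.mul_sum, ← Equiv.sum_comp (Equiv.mulLeft (⟨h, hh⟩ : R))]
      refine Finset.sum_congr rfl fun g _ => ?_
      simp only [Equiv.coe_mulLeft, Subgroup.coe_mul, _root_.mul_inv_rev, mt, Units.val_mul, mul_assoc]
      rw [← Units.val_mul h⁻¹, inv_mul_cancel, Units.val_one, mul_one])
    refine ⟨cij, fun a b => ?_, ?_⟩
    · have := congrFun (congrFun hc a) b
      simpa [Matrix.sum_apply, hE, Matrix.mul_apply, Matrix.single_apply, Matrix.one_apply, mul_comm, ite_and] using this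
    · have ht := congrArg Matrix.trace hc
      rw [Matrix.trace_sum, Finset.sum_congr rfl fun g _ => by
        rw [Matrix.trace_mul_cycle, ← Units.val_mul, inv_mul_cancel, Units.val_one, one_mul],
        Finset.sum_const, Finset.card_univ, nsmul_eq_mul, ← Nat.card_eq_fintype_card, Matrix.trace_smul,
        Matrix.trace_one, Fintype.card_fin, smul_eq_mul] at ht
      rw [mul_comm]
      push_cast at ht
      rw [← ht, hE]
      split_ifs with hij
      · subst hij; simp
      · simp [hij]
  choose cij hcij hcij' using hS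
  have h1 : ∑ g : R, (mt (g : GL (Fin 4) F)).trace * (mt (g : GL (Fin 4) F)⁻¹).trace = (Nat.card R : F) := by
    refine mul_left_cancel₀ h4 ?_
    simp only [Matrix.trace, Matrix.diag, Finset.sum_mul, Finset.mul_sum]
    rw [Finset.sum_comm, Finset.sum_congr rfl fun i _ => Finset.sum_comm]
    have : ∀ i j : Fin 4, ∑ g : R, 4 * (mt (g : GL (Fin 4) F) i i * mt (g : GL (Fin 4) F)⁻¹ j j) =
        if i = j then (Nat.card R : F) else 0 := by
      intro i j
      rw [← Finset.mul_sum, hcij]
      by_cases h : i = j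
      · rw [if_pos h, hcij']
      · rw [if_neg h, if_neg h, mul_zero]
    simp only [this]
    simp
  have h3 : ∀ g : R, (mt (g : GL (Fin 4) F)).trace * (mt (g : GL (Fin 4) F)⁻¹).trace =
      if g ∈ Subgroup.center R then 16 else 0 := by
    intro g
    split_ifs with hg
    · obtain ⟨s, hs'⟩ := (mem_center_iff hi g).1 hg
      have e : mt (g : GL (Fin 4) F)⁻¹ = s⁻¹ • 1 := by
        have hs0 : s ≠ 0 := fun e => by
          rw [e, zero_smul] at hs'
          exact ((g : GL (Fin 4) F).isUnit.ne_zero) hs'
        have e1 : mt (g : GL (Fin 4) F) * mt (g : GL (Fin 4) F)⁻¹ = 1 := by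
          rw [← Units.val_mul, mul_inv_cancel, Units.val_one]
        rw [hs', smul_mul_assoc, one_mul] at e1
        rw [← inv_smul_smul₀ hs0 (mt (g : GL (Fin 4) F)⁻¹), e1]
      have hs0 : s ≠ 0 := fun e0 => by
        rw [e0, zero_smul] at hs'
        exact ((g : GL (Fin 4) F).isUnit.ne_zero) hs'
      rw [hs', e, Matrix.trace_smul, Matrix.trace_smul, Matrix.trace_one, Fintype.card_fin, smul_eq_mul, smul_eq_mul]
      push_cast
      field_simp
      norm_num
    · rw [trace_zero_of_not_central hs hi hg, zero_mul]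
  rw [← h1, Finset.sum_congr rfl fun g _ => h3 g, Finset.sum_ite, Finset.sum_const, Finset.sum_const_zero, add_zero,
    nsmul_eq_mul, ← Fintype.card_subtype, ← Nat.card_eq_fintype_card, hz]
  norm_num

theorem card_le (hs : Cfsg.Geo.IsSymplecticTypeGroup 2 R) (h2 : (2 : F) ≠ 0)
    (hi : Cfsg.Geo.ActsAbsolutelyIrreducibly (Cfsg.Geo.matrixSet R)) :
    Nat.card R ≤ 16 * Nat.card (Subgroup.center R) := by
  classical
  have := Fintype.ofFinite (R ⧸ Subgroup.center R)
  let v : R ⧸ Subgroup.center R → Matrix (Fin 4) (Fin 4) F := fun a => mt ((Quotient.out a : R) : GL (Fin 4) F)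
  have hli : LinearIndependent F v := by
    rw [Fintype.linearIndependent_iff]
    intro w hw a
    have e := congrArg (fun M => (M * mt ((Quotient.out a : R) : GL (Fin 4) F)⁻¹).trace) hw
    simp only [Finset.sum_mul, Matrix.trace_sum, zero_mul, Matrix.trace_zero, smul_mul_assoc, Matrix.trace_smul] at e
    rw [Finset.sum_eq_single a (fun b _ hb => ?_) (fun h => absurd (Finset.mem_univ a) h)] at e
    · have h4 : (4 : F) ≠ 0 := by rw [show (4 : F) = 2 * 2 by norm_num]; exact mul_ne_zero h2 h2
      simp only [v, ← Units.val_mul, mul_inv_cancel, Units.val_one, Matrix.trace_one, Fintype.card_fin,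
        smul_eq_mul] at e
      push_cast at e
      exact (mul_eq_zero.1 e).resolve_right h4
    · have hnc : (Quotient.out b : R) * (Quotient.out a : R)⁻¹ ∉ Subgroup.center R := fun hc => by
        refine hb ?_
        rw [← Quotient.out_eq a, ← Quotient.out_eq b]
        refine QuotientGroup.eq.2 ?_
        have := (Subgroup.center R).inv_mem hc
        rw [_root_.mul_inv_rev, inv_inv] at this
        exact (Subgroup.Normal.mem_comm_iff inferInstance).1 this
      have := trace_zero_of_not_central hs hi hnc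
      simp only [Subgroup.coe_mul, Subgroup.coe_inv, mt, Units.val_mul] at this
      simp only [v, mt, this, smul_zero]
  have h := hli.fintype_card_le_finrank
  rw [Module.finrank_matrix, Module.finrank_self, Fintype.card_fin] at h
  rw [Subgroup.card_eq_card_quotient_mul_card_subgroup (Subgroup.center R), Nat.card_eq_fintype_card]
  exact Nat.mul_le_mul_right _ (by omega)

/-- The order is 64. -/
theorem card_eq (p : ℕ) [CharP F p] (hp : p.Prime) (hp5 : 5 ≤ p) (hs : Cfsg.Geo.IsSymplecticTypeGroup 2 R)
    (hi : Cfsg.Geo.ActsAbsolutelyIrreducibly (Cfsg.Geo.matrixSet R)) (hz : Nat.card (Subgroup.center R) = 4)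
    {m : ℕ} (hc : Nat.card R = 2 ^ (2 + 2 * m)) : Nat.card R = 2 ^ 6 := by
  have h2 : (2 : F) ≠ 0 := fun e => by
    have := Nat.le_of_dvd two_pos ((CharP.cast_eq_zero_iff F p 2).1 (by exact_mod_cast e))
    omega
  have h1 := card_congr_order h2 hs hi hz
  have hle := card_le hs h2 hi
  rw [hz, hc] at hle
  have hm : m ≤ 2 := by
    by_contra hm
    have : 2 ^ 8 ≤ 2 ^ (2 + 2 * m) := Nat.pow_le_pow_right two_pos (by omega)
    omega
  interval_cases m
  · exfalso
    -- everything is scalar
    have htop : Subgroup.center R = ⊤ := Subgroup.eq_top_of_card_eq _ (by rw [hz, hc]; norm_num)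
    rcases hi.1 (Submodule.span F {(Pi.single 0 1 : Fin 4 → F)}) (by
      rintro _ ⟨g, hg, rfl⟩
      obtain ⟨s, hs'⟩ := (mem_center_iff hi ⟨g, hg⟩).1 (by rw [htop]; trivial)
      rw [Submodule.map_le_iff_le_comap, Submodule.span_le]
      rintro _ rfl
      rw [SetLike.mem_coe, Submodule.mem_comap, Matrix.toLin'_apply]
      show mt g *ᵥ _ ∈ _
      rw [show mt g = s • 1 from hs', Matrix.smul_mulVec, Matrix.one_mulVec]
      exact Submodule.smul_mem _ _ (Submodule.subset_span rfl)) with h | h
    · have : (Pi.single 0 1 : Fin 4 → F) = 0 := by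
        rw [← Submodule.mem_bot F, ← h]; exact Submodule.subset_span rfl
      simpa using congrFun this 0
    · have := finrank_span_singleton (K := F) (v := (Pi.single 0 1 : Fin 4 → F)) (by simp [Pi.single_eq_zero_iff])
      rw [h, finrank_top, Module.finrank_fintype_fun_eq_card, Fintype.card_fin] at this
      omega
  · exfalso
    rw [hc] at h1
    push_cast at h1
    have h48 : (48 : F) = 0 := by linear_combination -h1
    have := (CharP.cast_eq_zero_iff F p 48).1 (by exact_mod_cast h48)
    rw [show 48 = 2 ^ 4 * 3 by norm_num] at this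
    rcases hp.dvd_mul.1 this with h | h
    · have := Nat.le_of_dvd two_pos (hp.dvd_of_dvd_pow h); omega
    · have := Nat.le_of_dvd (by norm_num) h; omega
  · rw [hc]

end CfsgLib.FrameSix
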