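import Cfsg.Agent.Lib.FrameSix.Coords
import Cfsg.Agent.Lib.FrameSix.Order
import Cfsg.Agent.Lib.Components.SLQuasisimple
import Cfsg.Agent.Classical.SLBasic

/-!
The normaliser of a symplectic-type group of order 64 with centre of order 4 is maximal in `SL₄` over a prime field.
-/

set_option autoImplicit false
set_option linter.unusedSectionVars false

namespace CfsgLib.FrameSix

open Matrix CfsgLib.Orth CfsgLib.GeomClasses.Frame CfsgLib.PrimeElusive.SymplType

open scoped MatrixGroups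

variable {F : Type*} [Field F] {R : Subgroup (GL (Fin 4) F)} {c : F}

local notation "bs" => (fun k : Fin 6 => (Pi.single k 1 : Fin 6 → F))

variable (K : Coords R c)

theorem Coords.exists_pair {v w : Fin 6 → F} {s : F} (hs : s ≠ 0) (h : q6 v * q6 w = s * s) :
    ∃ g : Cfsg.Geo.specialLinear (Fin 4) F, K.psi g = refl q6 v * refl q6 w := by
  obtain ⟨y, hy⟩ := CfsgLib.FrameSix.exists_pair K.sq K.two hs h
  have hn := MonoidHom.normal_ker (Matrix.GeneralLinearGroup.det : GL (Fin 4) F →* Fˣ)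
  refine ⟨⟨K.P * y * K.P⁻¹, hn.conj_mem _ y.2 K.P⟩, ?_⟩
  rw [← hy, Coords.psi, MonoidHom.comp_apply]
  congr 1
  refine Subtype.ext ?_
  show K.P⁻¹ * (K.P * (y : GL (Fin 4) F) * K.P⁻¹) * K.P = y
  group

variable [Fintype F]

theorem Coords.detHom_psi (g : Cfsg.Geo.specialLinear (Fin 4) F) : detHom q6 (K.psi g) = 1 := by
  let e : Matrix.SpecialLinearGroup (Fin 4) F ≃* Cfsg.Geo.specialLinear (Fin 4) F :=
    Cfsg.Agent.Classical.slEquivKerDet
  let f : Matrix.SpecialLinearGroup (Fin 4) F →* Fˣ := ((detHom q6).comp K.psi).comp e.toMonoidHom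
  have h := Abelianization.commutator_subset_ker f
  rw [Cfsg.Agent.Classical.sl_commutator_eq_top (by simp)] at h
  have h2 := MonoidHom.mem_ker.1 (h (Subgroup.mem_top (e.symm g)))
  simpa [f] using h2

/-- The normal subgroups of `SL₄`. -/
theorem sl_normal (N : Subgroup (Cfsg.Geo.specialLinear (Fin 4) F)) (hN : N.Normal) :
    N ≤ Subgroup.center _ ∨ N = ⊤ :=
  (CfsgLib.Components.quasisimple_normal_eq_top_or_le_center
    ((CfsgLib.Components.isQuasisimple_congr Cfsg.Agent.Classical.slEquivKerDet).1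
      (CfsgLib.Components39.sl_isQuasisimple (F := F) (n := 4) (by norm_num) (by norm_num))) N (hN := hN)).symm

variable (D : Data R 4)
include K D

/-- The normaliser is maximal. -/
theorem maximal_normalizer (p : ℕ) [Fact p.Prime] [CharP F p] (hcard : Nat.card F = p) :
    Cfsg.Geo.IsMaximalIn (Cfsg.Geo.specialLinear (Fin 4) F)
      (Cfsg.Geo.subgroupNormalizer R ⊓ Cfsg.Geo.specialLinear (Fin 4) F) := by
  classical
  have h := frame_six (F := F) K.two
  refine ⟨lt_of_le_of_ne inf_le_right fun heq => ?_, fun M hHM hMK => ?_⟩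
  · have hp2 : p ≠ 2 := by
      rintro rfl
      exact K.two (by exact_mod_cast CharP.cast_eq_zero F 2)
    have huw : (Pi.single 1 1 : Fin 4 → F) ⬝ᵥ Pi.single 0 1 = 0 := by simp
    obtain ⟨x, hx, hxp, hxd, hxs⟩ := exists_transvection (ι := Fin 4) p huw (by simp [Pi.single_eq_zero_iff])
      (by simp [Pi.single_eq_zero_iff])
    have hxSL : x ∈ Cfsg.Geo.specialLinear (Fin 4) F := MonoidHom.mem_ker.2 (Units.ext hxd)
    rw [← heq] at hxSL
    refine D.not_transvection hp2 hxp hxs huw hx 1 ?_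
    simpa [Cfsg.Geo.subgroupNormalizer] using hxSL.1
  by_cases hMH : M ≤ Cfsg.Geo.subgroupNormalizer R ⊓ Cfsg.Geo.specialLinear (Fin 4) F
  · exact Or.inl (le_antisymm hMH hHM)
  refine Or.inr (le_antisymm hMK ?_)
  obtain ⟨g, hgM, hgN⟩ := SetLike.not_le_iff_exists.1 hMH
  set M' := M.subgroupOf (Cfsg.Geo.specialLinear (Fin 4) F) with hM'
  set X := M'.map K.psi with hX'
  have hin : ∀ y : Cfsg.Geo.specialLinear (Fin 4) F, Mono bs (K.psi y) → K.psi y ∈ X := fun y hy =>
    Subgroup.mem_map_of_mem _ (Subgroup.mem_subgroupOf.2 (hHM ⟨(K.mem_normalizer_iff D y).2 hy, y.2⟩))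
  have hX : HasGens bs X := by
    refine ⟨fun i j hij => ?_, fun i j k l hij hkl => ?_⟩
    · obtain ⟨y, hy⟩ := K.exists_pair (v := bs i) (w := bs j) one_ne_zero (by rw [h.val, h.val])
      have := hin y (by rw [hy]; exact mono_mul (h.mono_refl_b i) (h.mono_refl_b j))
      rwa [hy] at this
    · obtain ⟨y, hy⟩ := K.exists_pair (v := bs i - bs j) (w := bs k - bs l) K.two
        (by rw [h.q_diff hij, h.q_diff hkl, mul_one])
      have := hin y (by rw [hy]; exact mono_mul (h.mono_swap hij) (h.mono_swap hkl))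
      rwa [hy] at this
  have hdet : ∀ x ∈ X, detHom q6 x = 1 := by
    rintro x ⟨y, -, rfl⟩
    exact K.detHom_psi y
  have hgX : K.psi ⟨g, hMK hgM⟩ ∈ X := Subgroup.mem_map_of_mem _ hgM
  have hall := unit_phi h hX hdet p hcard hgX fun hm =>
    hgN ⟨(K.mem_normalizer_iff D ⟨g, hMK hgM⟩).2 hm, hMK hgM⟩
  set T : Set (Cfsg.Geo.specialLinear (Fin 4) F) :=
    {y | ∃ v w, q6 v = 1 ∧ q6 w = 1 ∧ K.psi y = refl q6 v * refl q6 w} with hT
  have hTM : T ⊆ M' := by
    rintro y ⟨v, w, hv, hw, hy⟩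
    obtain ⟨m, hm, hme⟩ := phi_pair (hall v hv) (hall w hw) 0
    rw [← hy] at hme
    have hk : K.psi (m⁻¹ * y) = 1 := by rw [map_mul, map_inv, hme, inv_mul_cancel]
    have hkM : m⁻¹ * y ∈ M' :=
      Subgroup.mem_subgroupOf.2 (hHM ⟨Subgroup.le_normalizer (K.psi_ker D hk), (m⁻¹ * y).2⟩)
    have := M'.mul_mem hm hkM
    rwa [mul_inv_cancel_left] at this
  have hconj : Group.conjugatesOfSet T ⊆ T := by
    intro z hz
    obtain ⟨y, ⟨v, w, hv, hw, hy⟩, hyz⟩ := Group.mem_conjugatesOfSet_iff.1 hz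
    obtain ⟨k, rfl⟩ := isConj_iff.1 hyz
    refine ⟨app (K.psi k) v, app (K.psi k) w, by rw [Q_app, hv], by rw [Q_app, hw], ?_⟩
    rw [map_mul, map_mul, map_inv, hy, ← refl_conj, ← refl_conj]; group
  have hnc : Subgroup.normalClosure T ≤ M' := (Subgroup.closure_le _).2 (hconj.trans hTM)
  rcases sl_normal (Subgroup.normalClosure T) Subgroup.normalClosure_normal with hN | hN
  · exfalso
    obtain ⟨ha, ea⟩ := K.img_a
    obtain ⟨hb, -⟩ := K.img_b
    have haT : (⟨K.fr.a, ha⟩ : Cfsg.Geo.specialLinear (Fin 4) F) ∈ T :=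
      ⟨bs 0, bs 1, h.val 0, h.val 1, by rw [ea, h.sgn_pair (by decide)]⟩
    have hcom := congrArg Subtype.val
      (Subgroup.mem_center_iff.1 (hN (Subgroup.subset_normalClosure haT)) ⟨K.fr.b, hb⟩)
    exact Anti.not_commute K.two K.fr.ab hcom.symm
  · intro x hx
    have : (⟨x, hx⟩ : Cfsg.Geo.specialLinear (Fin 4) F) ∈ M' := hnc (by rw [hN]; trivial)
    exact this

omit K D in
/-- The class of symplectic-type normalisers in dimension four. -/
theorem maximal_symplecticType (p : ℕ) (hp : p.Prime) (hF : Fintype.card F = p) (hp4 : p % 4 = 1)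
    (hR : Cfsg.Geo.IsLinearSymplecticTypeData 2 R) :
    Cfsg.Geo.IsMaximalIn (Cfsg.Geo.specialLinear (Fin 4) F)
      (Cfsg.Geo.subgroupNormalizer R ⊓ Cfsg.Geo.specialLinear (Fin 4) F) := by
  have : Fact p.Prime := ⟨hp⟩
  have : CharP F p := by
    obtain ⟨n, hr, hn⟩ := FiniteField.card F (ringChar F)
    have hpr : ringChar F = p := by
      rw [hF] at hn
      exact ((Nat.prime_dvd_prime_iff_eq hr hp).1 (hn ▸ dvd_pow_self _ (PNat.ne_zero n)))
    exact hpr ▸ ringChar.charP F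
  have h2 : (2 : F) ≠ 0 := fun e => by
    have := (CharP.cast_eq_zero_iff F p 2).1 (by exact_mod_cast e)
    have := Nat.le_of_dvd two_pos this
    have := hp.two_le
    omega
  obtain ⟨q, e, -, -, hcs⟩ := hR.field
  have hz : Nat.card (Subgroup.center R) = 4 := by
    rcases hcs with ⟨h, -⟩ | ⟨-, -, h, -⟩ | ⟨-, -, h, -⟩
    · exact absurd h (by decide)
    · exact h
    · simp at h
  obtain ⟨m, hm⟩ : ∃ m : ℕ, Nat.card R = 2 ^ (2 + 2 * m) := by
    rcases hcs with ⟨h, -⟩ | ⟨-, -, -, -, h⟩ | ⟨-, -, h, -⟩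
    · exact absurd h (by decide)
    · exact h
    · simp at h
  have hR6 := card_eq p hp (by have := hp.two_le; omega) hR.symplecticType hR.absIrred hz hm
  have D := data_of_symplecticType (by simp) h2 hR.symplecticType hR.absIrred (by rw [hR6]; norm_num) hz (by norm_num)
  obtain ⟨c, ⟨K⟩⟩ := exists_coords D
  exact maximal_normalizer K D p (by rw [Nat.card_eq_fintype_card, hF])

end CfsgLib.FrameSix
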