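import Cfsg.Agent.Lib.FrameSix.Core

/-!
Six frame vectors: conjugates of sign changes and the dihedral argument.
-/

set_option autoImplicit false
set_option linter.unusedSectionVars false

namespace CfsgLib.FrameSix

open QuadraticMap CfsgLib.Orth CfsgLib.GeomClasses.Frame

variable {ι : Type} [Fintype ι] [DecidableEq ι] {F : Type*} [Field F]
  {q : QuadraticForm F (ι → F)} {b : Fin 6 → ι → F} {c : F}

theorem symm_pairs {L J : Finset (Fin 6)} (hL : L.card = 2) (hJ : J.card = 2) (hne : L ≠ J) :
    (symmDiff L J).card = 2 ∨ (symmDiff L J).card = 4 := by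
  have h1 := Finset.card_sdiff_add_card_inter L J
  have h2 := Finset.card_sdiff_add_card_inter J L
  rw [Finset.inter_comm] at h2
  have h3 : (symmDiff L J).card = (L \ J).card + (J \ L).card := by
    rw [symmDiff_def, Finset.sup_eq_union, Finset.card_union_of_disjoint disjoint_sdiff_sdiff]
  have h4 : L ∩ J ≠ L ∨ L ∩ J ≠ J := by
    by_contra hn; push Not at hn; exact hne (hn.1.symm.trans hn.2)
  have h5 : (L ∩ J).card < 2 := by
    rcases h4 with e | e
    · by_contra hn
      exact e (Finset.eq_of_subset_of_card_le Finset.inter_subset_left (by omega))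
    · by_contra hn
      exact e (Finset.eq_of_subset_of_card_le Finset.inter_subset_right (by omega))
  omega

theorem conj_commute {g y t : O q} (hc : Commute (g * t * g⁻¹) y) : Commute (g⁻¹ * y * g) t := by
  have h2 := hc.symm.map (MulAut.conj g⁻¹).toMonoidHom
  simp only [MulEquiv.coe_toMonoidHom, MulAut.conj_apply, inv_inv] at h2
  rwa [show g⁻¹ * (g * t * g⁻¹) * g = t by group] at h2

theorem commute_pair (h : IsFrame q b c) {z : O q} {σ : Fin 6 → Fin 6}
    (hzr : ∀ i, z * refl q (b i) * z⁻¹ = refl q (b (σ i))) {i j : Fin 6} (hij : i ≠ j)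
    (he : (σ i = i ∧ σ j = j) ∨ (σ i = j ∧ σ j = i)) : Commute z (h.sgn {i, j}) := by
  rw [h.sgn_pair hij]
  refine mul_inv_eq_iff_eq_mul.1 ?_
  rw [show z * (refl q (b i) * refl q (b j)) * z⁻¹ = (z * refl q (b i) * z⁻¹) * (z * refl q (b j) * z⁻¹) by group,
    hzr, hzr]
  rcases he with ⟨e1, e2⟩ | ⟨e1, e2⟩ <;> rw [e1, e2]
  rw [← h.sgn_pair hij, ← h.sgn_pair (Ne.symm hij), Finset.pair_comm]

variable (h : IsFrame q b c) {X : Subgroup (O q)} (hX : HasGens b X)
include h

theorem q_comb {i j : Fin 6} (hij : i ≠ j) (s t : F) : q (s • b i + t • b j) = (s ^ 2 + t ^ 2) * c := by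
  rw [h.q_eq, ip_add_left, ip_add_right, ip_add_right, ip_smul_left, ip_smul_left, ip_smul_left, ip_smul_left,
    ip_smul_right, ip_smul_right, ip_smul_right, ip_smul_right, h.ip_b, h.ip_b, h.ip_b, h.ip_b, if_pos rfl,
    if_pos rfl, if_neg hij, if_neg hij.symm]
  ring

theorem co_comb_two {i j : Fin 6} (s t : F) (l : Fin 6) :
    co q b c l (s • b i + t • b j) = (if i = l then s else 0) + if j = l then t else 0 := by
  rw [co_add, co_smul, co_smul, h.co_b, h.co_b]
  split_ifs <;> ring

theorem ip_supp_two {i j : Fin 6} (hij : i ≠ j) {v : ι → F} (hv : ∀ o, o ≠ i → o ≠ j → co q b c o v = 0)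
    (x : ι → F) : ip q c x v = co q b c i x * co q b c i v + co q b c j x * co q b c j v := by
  rw [ip_comm, h.ip_eq_sum_of (s := {i, j}) (fun o ho => by
    simp only [Finset.mem_insert, Finset.mem_singleton, not_or] at ho; exact hv o ho.1 ho.2), Finset.sum_pair hij]
  ring

theorem refl_neg_neg {x : ι → F} {l : Fin 6} {v : ι → F} (hv : v = b l ∨ v = -b l) :
    app (refl q v) x = app (refl q (b l)) x := by
  rcases hv with rfl | rfl
  · rfl
  · rw [refl_neg]

include hX

/-- No line off the plane is invariant under the even signed permutations fixing the plane. -/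
theorem no_fixed_line {i j : Fin 6} {u : ι → F} (hu : u ≠ 0) (hi : co q b c i u = 0) (hj : co q b c j u = 0)
    (hR : ∀ R ∈ X, app R (b i) = b i → app R (b j) = b j → app R u = u ∨ app R u = -u) : False := by
  classical
  obtain ⟨x, hx⟩ : ∃ x, co q b c x u ≠ 0 := by
    by_contra hn
    push Not at hn
    exact hu (h.ext_co fun o => by rw [hn, co_zero])
  have hxi : x ≠ i := fun e => hx (e ▸ hi)
  have hxj : x ≠ j := fun e => hx (e ▸ hj)
  have hsingle : ∀ y, y ≠ x → co q b c y u = 0 := by
    intro y hyx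
    by_contra hy
    obtain ⟨z, hz⟩ := exists_outside (S := ({i, j, x, y} : Finset (Fin 6)))
      (lt_of_le_of_lt Finset.card_le_four (by norm_num))
    simp only [Finset.mem_insert, Finset.mem_singleton, not_or] at hz
    have hfix : ∀ o, o ≠ x → o ≠ z → app (h.sgn {x, z}) (b o) = b o := fun o h1 h2 => by
      rw [h.sgn_b, if_neg (by simp [h1, h2])]
    rcases hR _ (h.sgn_mem hX _ (by rw [Finset.card_pair (Ne.symm hz.2.2.1)]; decide))
      (hfix i (Ne.symm hxi) (Ne.symm hz.1)) (hfix j (Ne.symm hxj) (Ne.symm hz.2.1)) with e | e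
    · have := congrArg (co q b c x) e
      rw [h.co_sgn, if_pos (by simp)] at this
      exact hx ((mul_eq_zero.1 (show 2 * co q b c x u = 0 by linear_combination -this)).resolve_left h.two)
    · have := congrArg (co q b c y) e
      rw [h.co_sgn, if_neg (by simp [hyx, Ne.symm hz.2.2.2]), co_neg] at this
      exact hy ((mul_eq_zero.1 (show 2 * co q b c y u = 0 by linear_combination this)).resolve_left h.two)
  obtain ⟨y, hy⟩ := exists_outside (S := ({i, j, x} : Finset (Fin 6)))
    (lt_of_le_of_lt Finset.card_le_three (by norm_num))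
  obtain ⟨z, hz⟩ := exists_outside (S := ({i, j, x, y} : Finset (Fin 6)))
    (lt_of_le_of_lt Finset.card_le_four (by norm_num))
  simp only [Finset.mem_insert, Finset.mem_singleton, not_or] at hy hz
  have hxy : x ≠ y := Ne.symm hy.2.2
  have hyz : y ≠ z := Ne.symm hz.2.2.2
  have hcyc : ∀ o, app (refl q (b x - b y) * refl q (b y - b z)) (b o) = b (Equiv.swap x y (Equiv.swap y z o)) :=
    h.cycle_b hxy hyz
  have hex : u = co q b c x u • b x := h.ext_co fun o => by
    rw [co_smul, h.co_b]
    split_ifs with ho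
    · rw [← ho, mul_one]
    · rw [mul_zero, hsingle o (Ne.symm ho)]
  have hz0 : co q b c y u = 0 := hsingle y hy.2.2
  rcases hR _ (hX.perms x y y z hxy hyz)
    (by rw [hcyc, Equiv.swap_apply_of_ne_of_ne (Ne.symm hy.1) (Ne.symm hz.1),
      Equiv.swap_apply_of_ne_of_ne (Ne.symm hxi) (Ne.symm hy.1)])
    (by rw [hcyc, Equiv.swap_apply_of_ne_of_ne (Ne.symm hy.2.1) (Ne.symm hz.2.1),
      Equiv.swap_apply_of_ne_of_ne (Ne.symm hxj) (Ne.symm hy.2.1)]) with e | e <;>
    rw [hex, map_smul, hcyc, Equiv.swap_apply_of_ne_of_ne hxy (Ne.symm hz.2.2.1), Equiv.swap_apply_left] at e <;>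
    have := congrArg (co q b c y) e <;>
    simp [co_smul, co_neg, h.co_b_self, h.co_b_ne hxy, hx] at this

variable (H1 : ∀ g ∈ X, ∀ a, (app g (b a) = b a ∨ app g (b a) = -b a) → Mono b g)
include H1

/-- A conjugate of the sign change on a pair which is a signed permutation and negates an image of the plane. -/
theorem conj_line {g : O q} (hg : g ∈ X) {i j : Fin 6} (hij : i ≠ j) (hz : Mono b (g * h.sgn {i, j} * g⁻¹))
    {r : Fin 6} (hr : ∀ o, o ≠ i → o ≠ j → co q b c o (app g⁻¹ (b r)) = 0) : Mono b g := by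
  classical
  set v := app g⁻¹ (b r) with hv
  have hvc : q v = c := by rw [hv, Q_app, h.val]
  have hnorm : co q b c i v ^ 2 + co q b c j v ^ 2 = 1 := by
    have := (h.unit_iff v).1 hvc
    rw [ip_supp_two h hij hr] at this
    linear_combination this
  set A := co q b c i v with hA
  set B := co q b c j v with hB
  set e := (-B) • b i + A • b j with he
  have hei : co q b c i e = -B := by rw [he, co_comb_two h]; simp [hij.symm]
  have hej : co q b c j e = A := by rw [he, co_comb_two h]; simp [hij]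
  have heo : ∀ o, o ≠ i → o ≠ j → co q b c o e = 0 := fun o h1 h2 => by
    rw [he, co_comb_two h, if_neg h1.symm, if_neg h2.symm, add_zero]
  have hec : q e = c := by rw [he, q_comb h hij, show (-B) ^ 2 + A ^ 2 = (1 : F) by linear_combination hnorm, one_mul]
  have hid : h.sgn {i, j} * refl q v = refl q e := by
    refine ext_app fun x => h.ext_co fun o => ?_
    rw [app_mul, h.co_sgn, h.co_refl_unit hvc, h.co_refl_unit hec, ip_supp_two h hij hr, ip_supp_two h hij heo,
      hei, hej]
    by_cases hoi : o = i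
    · subst hoi
      rw [if_pos (by simp), hei]
      linear_combination (2 * co q b c o x) * hnorm
    by_cases hoj : o = j
    · subst hoj
      rw [if_pos (by simp), hej]
      linear_combination (2 * co q b c o x) * hnorm
    rw [if_neg (by simp [hoi, hoj]), heo o hoi hoj, hr o hoi hoj]
    ring
  have hgv : app g v = b r := app_app_inv g (b r)
  set E := app g e with hE
  have hEc : q E = c := by rw [hE, Q_app, hec]
  have hsij : h.sgn {i, j} = refl q e * refl q v := by rw [← hid, mul_assoc, refl_mul_self, mul_one]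
  have hzE : g * h.sgn {i, j} * g⁻¹ = refl q E * refl q (b r) := by
    rw [hsij, show g * (refl q e * refl q v) * g⁻¹ = (g * refl q e * g⁻¹) * (g * refl q v * g⁻¹) by group, refl_conj,
      refl_conj, hgv]
  have hEm : Mono b (refl q E) := by
    have := mono_mul hz (h.mono_refl_b r)
    rwa [hzE, mul_assoc, refl_mul_self, mul_one] at this
  have hEr : co q b c r E = 0 := by
    change ip q c E (b r) = 0
    rw [← hgv, hE, ip_app, ip_supp_two h hij hr, hei, hej]
    ring
  rcases h.short_of_mono hEc hEm with ⟨k, hk⟩ | ⟨k, l, hkl, hout, hk2, hl2⟩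
  · have hkr : k ≠ r := by
      rintro rfl
      rcases hk with e1 | e1 <;> rw [e1] at hEr <;> simp [co_neg, h.co_b_self] at hEr
    obtain ⟨m, hm, hmono, hmk, hmr⟩ := h.exists_move₂ hX (by norm_num) hkr hij
    have hmzm : m * (g * h.sgn {i, j} * g⁻¹) * m⁻¹ = h.sgn {i, j} := by
      rw [hzE, show refl q E = refl q (b k) by rcases hk with e1 | e1 <;> rw [e1]; rw [refl_neg],
        show m * (refl q (b k) * refl q (b r)) * m⁻¹ = (m * refl q (b k) * m⁻¹) * (m * refl q (b r) * m⁻¹) by group,
        refl_conj, refl_conj, hmk, hmr, h.sgn_pair hij]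
    have hc : Commute (m * g) (h.sgn {i, j}) := by
      show m * g * h.sgn {i, j} = h.sgn {i, j} * (m * g)
      conv_rhs => rw [← hmzm]
      group
    have := mono_mul (h.mono_inv hmono) (comm_pair h hX H1 hij (X.mul_mem hm hg) hc)
    rwa [inv_mul_cancel_left] at this
  exfalso
  set d := co q b c l E • b k + (-co q b c k E) • b l with hd
  have hdk : co q b c k d = co q b c l E := by rw [hd, co_comb_two h]; simp [hkl.symm]
  have hdl : co q b c l d = -co q b c k E := by rw [hd, co_comb_two h]; simp [hkl]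
  have hdo : ∀ o, o ≠ k → o ≠ l → co q b c o d = 0 := fun o h1 h2 => by
    rw [hd, co_comb_two h, if_neg h1.symm, if_neg h2.symm, add_zero]
  have hl0 : co q b c l E ≠ 0 := fun e0 => by rw [e0] at hl2; simp at hl2
  have hk0 : co q b c k E ≠ 0 := fun e0 => by rw [e0] at hk2; simp at hk2
  have hdE : ip q c d E = 0 := by rw [ip_supp_two h hkl hout, hdk, hdl]; ring
  have hdr : co q b c r d = 0 := hdo r (fun e1 => hk0 (e1 ▸ hEr)) (fun e1 => hl0 (e1 ▸ hEr))
  have hdd : ip q c d d = 1 := by
    rw [ip_supp_two h hkl hdo, hdk, hdl]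
    exact mul_left_cancel₀ h.two (by linear_combination hl2 + hk2)
  set u := app g⁻¹ d with hu
  have hu0 : ip q c u v = 0 ∧ ip q c u e = 0 := by
    constructor
    · rw [hu, hv, ip_app]; exact hdr
    · rw [hu, show e = app g⁻¹ E by rw [hE, app_inv_app], ip_app, hdE]
  rw [ip_supp_two h hij hr, ip_supp_two h hij heo, hei, hej] at hu0
  obtain ⟨u1, u2⟩ := hu0
  refine no_fixed_line h hX (u := u) (i := i) (j := j) (fun e0 => ?_)
    (by linear_combination A * u1 - B * u2 - co q b c i u * hnorm)
    (by linear_combination B * u1 + A * u2 - co q b c j u * hnorm) fun R hR hRi hRj => ?_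
  · have e1 := (ip_app g⁻¹ d d).trans hdd
    rw [← hu, e0, ip_zero_left] at e1
    exact zero_ne_one e1
  have hfix : ∀ w, (∀ o, o ≠ i → o ≠ j → co q b c o w = 0) → app R w = w := fun w hw =>
    h.fix_of_co (S := {i, j}) (fun o ho => by
      simp only [Finset.mem_insert, Finset.mem_singleton] at ho; rcases ho with rfl | rfl <;> assumption)
      (fun o ho => by simp only [Finset.mem_insert, Finset.mem_singleton, not_or] at ho; exact hw o ho.1 ho.2)
  set y := g * R * g⁻¹ with hy
  have hyr : app y (b r) = b r := by rw [hy, app_mul, app_mul, ← hv, hfix v hr, hgv]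
  have hyE : app y E = E := by rw [hy, app_mul, app_mul, hE, app_inv_app, hfix e heo]
  have hyX : y ∈ X := X.mul_mem (X.mul_mem hg hR) (X.inv_mem hg)
  have hym : Mono b y⁻¹ := h.mono_inv (H1 y hyX r (Or.inl hyr))
  have hyco : ∀ w o, co q b c o (app y w) = ip q c w (app y⁻¹ (b o)) := fun w o => by
    conv_rhs => rw [← ip_app y, app_app_inv]
    rfl
  have hyd : ∀ o, o ≠ k → o ≠ l → co q b c o (app y d) = 0 := by
    intro o h1 h2
    obtain ⟨o', ho'⟩ := hym o
    have e1 := hyco E o
    rw [hyE, hout o h1 h2] at e1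
    have hE0 : co q b c o' E = 0 := by
      rcases ho' with e2 | e2 <;> rw [e2] at e1
      · exact e1.symm
      · rw [ip_neg_right] at e1; exact neg_eq_zero.1 e1.symm
    have hd0 : co q b c o' d = 0 := hdo o' (fun e2 => hk0 (e2 ▸ hE0)) (fun e2 => hl0 (e2 ▸ hE0))
    rw [hyco]
    rcases ho' with e2 | e2 <;> rw [e2]
    · exact hd0
    · rw [ip_neg_right]; exact neg_eq_zero.2 hd0
  have e1 : ip q c (app y d) E = 0 := by rw [← hyE, ip_app, hdE]
  rw [ip_supp_two h hkl hout] at e1
  have hlam : app y d = (co q b c k (app y d) / co q b c l E) • d := h.ext_co fun o => by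
    rw [co_smul]
    by_cases hok : o = k
    · subst hok; rw [hdk, div_mul_cancel₀ _ hl0]
    by_cases hol : o = l
    · subst hol
      rw [hdl]
      field_simp
      linear_combination e1
    rw [hyd o hok hol, hdo o hok hol, mul_zero]
  have e2 := ip_app (c := c) y d d
  rw [hlam, ip_smul_left, ip_smul_right, hdd, mul_one] at e2
  have hRu : app R u = app g⁻¹ (app y d) := by simp [hy, hu, app_inv_app]
  rcases mul_self_eq_one_iff.1 e2 with e3 | e3 <;> rw [hRu, hlam, e3]
  · left; rw [one_smul]
  · right; rw [neg_one_smul, map_neg]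

/-- If a conjugate of the sign change on a pair is a signed permutation, so is the conjugating element. -/
theorem conj_pair {g : O q} (hg : g ∈ X) {i j : Fin 6} (hij : i ≠ j) (hz : Mono b (g * h.sgn {i, j} * g⁻¹)) :
    Mono b g := by
  classical
  by_cases hr : ∃ r, ∀ o, o ≠ i → o ≠ j → co q b c o (app g⁻¹ (b r)) = 0
  · obtain ⟨r, hr⟩ := hr; exact conj_line h hX H1 hg hij hz hr
  push Not at hr
  set z := g * h.sgn {i, j} * g⁻¹ with hzdef
  have hzz : z * z = 1 := by
    rw [hzdef, show g * h.sgn {i, j} * g⁻¹ * (g * h.sgn {i, j} * g⁻¹) = g * (h.sgn {i, j} * h.sgn {i, j}) * g⁻¹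
      by group, sq_one h, mul_one, mul_inv_cancel]
  obtain ⟨σ, hσ2, hσ, hconj⟩ := h.involution_data hX hzz hz
  set v := fun o => app g⁻¹ (b o) with hv
  have hvc : ∀ o, q (v o) = c := fun o => by rw [hv]; simp only; rw [Q_app, h.val]
  have hvip : ∀ o p, ip q c (v o) (v p) = if o = p then 1 else 0 := fun o p => by
    simp only [hv, ip_app, h.ip_b]
  have hflip : ∀ o, app (h.sgn {i, j}) (v o) = v (σ o) ∨ app (h.sgn {i, j}) (v o) = -v (σ o) := by
    intro o
    have e : app (h.sgn {i, j}) (v o) = app g⁻¹ (app z (b o)) := by simp [hzdef, hv, app_inv_app]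
    rcases hσ o with e1 | e1 <;> rw [e, e1]
    · exact Or.inl rfl
    · right; rw [map_neg]
  have hij2 : ∀ o, σ o = o → co q b c i (v o) = 0 ∧ co q b c j (v o) = 0 := by
    intro o ho
    have hs := hflip o
    rw [ho] at hs
    rcases hs with e | e
    · constructor
      · have := congrArg (co q b c i) e
        rw [h.co_sgn, if_pos (by simp)] at this
        exact (mul_eq_zero.1 (show 2 * co q b c i (v o) = 0 by linear_combination -this)).resolve_left h.two
      · have := congrArg (co q b c j) e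
        rw [h.co_sgn, if_pos (by simp)] at this
        exact (mul_eq_zero.1 (show 2 * co q b c j (v o) = 0 by linear_combination -this)).resolve_left h.two
    · obtain ⟨p, hp1, hp2, hp3⟩ := hr o
      have := congrArg (co q b c p) e
      rw [h.co_sgn, if_neg (by simp [hp1, hp2]), co_neg] at this
      exact absurd ((mul_eq_zero.1 (show 2 * co q b c p (v o) = 0 by linear_combination this)).resolve_left h.two) hp3
  have hdecomp : ∀ x y : ι → F, ip q c (app (h.sgn {i, j}) x) y =
      ip q c x y - 2 * (co q b c i x * co q b c i y + co q b c j x * co q b c j y) := by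
    intro x y
    have hsum : ∀ o, co q b c o (app (h.sgn {i, j}) x) * co q b c o y = co q b c o x * co q b c o y -
        (if o ∈ ({i, j} : Finset (Fin 6)) then 2 * (co q b c o x * co q b c o y) else 0) := fun o => by
      rw [h.co_sgn]; split_ifs <;> ring
    rw [h.ip_eq_sum, h.ip_eq_sum, Finset.sum_congr rfl fun o _ => hsum o, Finset.sum_sub_distrib, Finset.sum_ite_mem,
      Finset.univ_inter, Finset.sum_pair hij]
    ring
  have hmov : ∀ o, σ o ≠ o → 2 * (co q b c i (v o) ^ 2 + co q b c j (v o) ^ 2) = 1 := by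
    intro o ho
    have e := hdecomp (v o) (v o)
    have e0 : ip q c (app (h.sgn {i, j}) (v o)) (v o) = 0 := by
      rcases hflip o with e1 | e1 <;> simp [e1, ip_neg_left, hvip, ho]
    rw [e0, hvip, if_pos rfl] at e
    linear_combination e
  set M := Finset.univ.filter fun o => σ o ≠ o with hM
  have hMmem : ∀ o, o ∈ M ↔ σ o ≠ o := fun o => by simp [hM]
  have hMcard : M.card = 4 := by
    have hcol : ∀ x : Fin 6, ∑ o, co q b c x (v o) ^ 2 = 1 := fun x => by
      have := h.sum_sq (x := app g (b x)) (by rw [Q_app, h.val])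
      exact (Finset.sum_congr rfl fun o _ => by rw [co_app h g o x]).symm.trans this
    have e1 : ∑ o, 2 * (co q b c i (v o) ^ 2 + co q b c j (v o) ^ 2) = 4 := by
      rw [← Finset.mul_sum, Finset.sum_add_distrib, hcol, hcol]; norm_num
    rw [← Finset.sum_add_sum_compl M, Finset.sum_congr rfl fun o ho => hmov o ((hMmem o).1 ho),
      Finset.sum_eq_zero (s := Mᶜ) (f := fun o => 2 * (co q b c i (v o) ^ 2 + co q b c j (v o) ^ 2)) (fun o ho => by
        obtain ⟨a1, a2⟩ := hij2 o (by simpa [hM] using ho)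
        rw [a1, a2]; ring), add_zero, Finset.sum_const, nsmul_eq_mul, mul_one] at e1
    have h2 := h.two
    have h4 : (4 : F) ≠ 0 := by rw [show (4 : F) = 2 * 2 by norm_num]; exact mul_ne_zero h2 h2
    have hle : M.card ≤ 6 := (Finset.card_le_univ _).trans (by simp)
    have hne1 : M.card ≠ 1 := fun e => by
      obtain ⟨a, ha⟩ := Finset.card_eq_one.1 e
      have h1 : σ a ≠ a := (hMmem a).1 (by rw [ha]; simp)
      have h3 : σ a ∈ M := (hMmem _).2 (by rw [hσ2]; exact h1.symm)
      rw [ha, Finset.mem_singleton] at h3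
      exact h1 h3
    rcases show M.card = 0 ∨ M.card = 2 ∨ M.card = 3 ∨ M.card = 4 ∨ M.card = 5 ∨ M.card = 6 by omega with
      e | e | e | e | e | e <;> rw [e] at e1 <;> norm_num at e1
    · exact absurd e1.symm h4
    · exact absurd (show (2 : F) = 0 by linear_combination -e1) h2
    · exact absurd (show (1 : F) = 0 by linear_combination -e1) one_ne_zero
    · exact e
    · exact absurd (show (1 : F) = 0 by linear_combination e1) one_ne_zero
    · exact absurd (show (2 : F) = 0 by linear_combination e1) h2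
  obtain ⟨o, ho⟩ : M.Nonempty := Finset.card_pos.1 (by omega)
  rw [hMmem] at ho
  set p := σ o with hp
  have hpo : p ≠ o := ho
  obtain ⟨o', ho'⟩ : (M \ {o, p}).Nonempty := Finset.card_pos.1 (by
    have := Finset.le_card_sdiff ({o, p} : Finset (Fin 6)) M
    rw [Finset.card_pair hpo.symm] at this
    omega)
  simp only [Finset.mem_sdiff, Finset.mem_insert, Finset.mem_singleton, not_or, hMmem] at ho'
  set p' := σ o' with hp'
  have hMeq : M = {o, p, o', p'} := (Finset.eq_of_subset_of_card_le (fun a ha => by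
    simp only [Finset.mem_insert, Finset.mem_singleton] at ha
    rcases ha with rfl | rfl | rfl | rfl
    · exact (hMmem _).2 ho
    · exact (hMmem _).2 (by rw [hp, hσ2]; exact fun e => ho e.symm)
    · exact (hMmem _).2 ho'.1
    · exact (hMmem _).2 (by rw [hp', hσ2]; exact fun e => ho'.1 e.symm)) (by
    have n1 : o ≠ o' := fun e => ho'.2.1 e.symm
    have n2 : o ≠ p' := fun e => ho'.2.2 (by rw [hp, e, hp', hσ2])
    have n3 : p ≠ o' := fun e => ho'.2.2 e.symm
    have n4 : p ≠ p' := fun e => ho'.2.1 (by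
      have := congrArg σ e
      rw [hp, hp', hσ2, hσ2] at this
      exact this.symm)
    have n5 : o' ≠ p' := fun e => ho'.1 e.symm
    rw [hMcard, Finset.card_insert_of_notMem (by simp [hpo.symm, n1, n2]),
      Finset.card_insert_of_notMem (by simp [n3, n4]), Finset.card_pair n5])).symm
  obtain ⟨s, hs, t, ht, hst⟩ := Finset.one_lt_card.1 (show 1 < Mᶜ.card by
    rw [Finset.card_compl, Fintype.card_fin, hMcard]; norm_num)
  simp only [Finset.mem_compl, hMmem, not_not] at hs ht
  have hcommz : ∀ a a' : Fin 6, a ≠ a' → (σ a = a ∧ σ a' = a') ∨ (σ a = a' ∧ σ a' = a) →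
      Mono b (g⁻¹ * h.sgn {a, a'} * g) := by
    intro a a' ha he
    exact comm_pair h hX H1 hij (X.mul_mem (X.mul_mem (X.inv_mem hg) (h.sgn_mem hX _
      (by rw [Finset.card_pair ha]; decide))) hg) (conj_commute (commute_pair h hconj ha he))
  have hback : ∀ a a' : Fin 6, a ≠ a' → (σ a = a ∧ σ a' = a') ∨ (σ a = a' ∧ σ a' = a) → ∀ x : Fin 6,
      (∀ y, y ≠ a → y ≠ a' → co q b c x (v y) = 0) → Mono b g := by
    intro a a' ha he x hx
    have hm : Mono b (g⁻¹ * h.sgn {a, a'} * g⁻¹⁻¹) := by rw [inv_inv]; exact hcommz a a' ha he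
    have := conj_line h hX H1 (X.inv_mem hg) ha hm (r := x) fun y h1 h2 => by
      rw [inv_inv, co_app h]; exact hx y h1 h2
    simpa using h.mono_inv this
  by_cases hplane : ∃ x, ∀ y, y ≠ o → y ≠ p → co q b c x (v y) = 0
  · obtain ⟨x, hx⟩ := hplane
    exact hback o p hpo.symm (Or.inr ⟨rfl, by rw [hp, hσ2]⟩) x hx
  push Not at hplane
  -- the coordinates of the preimage
  obtain ⟨ε, hε, hvp⟩ : ∃ ε : F, ε * ε = 1 ∧ v p = ε • app (h.sgn {i, j}) (v o) := by
    rcases hflip o with e | e
    · exact ⟨1, one_mul 1, by rw [e, one_smul]⟩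
    · exact ⟨-1, by ring, by rw [e]; simp [hp]⟩
  have hsame : ∀ x y : Fin 6, (x ∈ ({i, j} : Finset (Fin 6)) ↔ y ∈ ({i, j} : Finset (Fin 6))) →
      co q b c y (app (g⁻¹ * h.sgn {o, p} * g) (b x)) =
        (if x = y then 1 else 0) - 4 * (co q b c x (v o) * co q b c y (v o)) := by
    intro x y hxy
    have e : app (g⁻¹ * h.sgn {o, p} * g) (b x) = b x - (2 * co q b c x (v o)) • v o -
        (2 * co q b c x (v p)) • v p := by
      rw [app_mul, app_mul, h.sgn_pair hpo.symm, app_mul, h.refl_unit (h.val p), h.refl_unit (h.val o)]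
      have e1 : ip q c (app g (b x)) (b p) = co q b c x (v p) := co_app h g p x
      have e2 : ip q c (app g (b x)) (b o) = co q b c x (v o) := co_app h g o x
      rw [ip_sub_left, ip_smul_left, h.ip_b, if_neg hpo, mul_zero, sub_zero, e1, e2, map_sub, map_sub,
        map_smul, map_smul, app_inv_app]
      simp only [hv]
      abel
    rw [e, co_sub, co_sub, co_smul, co_smul, hvp, co_smul, co_smul, h.co_sgn, h.co_sgn, h.co_b]
    by_cases hx : x ∈ ({i, j} : Finset (Fin 6))
    · rw [if_pos hx, if_pos (hxy.1 hx)]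
      linear_combination (-2 * co q b c x (v o) * co q b c y (v o)) * hε
    · rw [if_neg hx, if_neg fun hy => hx (hxy.2 hy)]
      linear_combination (-2 * co q b c x (v o) * co q b c y (v o)) * hε
  have hz' := hcommz o p hpo.symm (Or.inr ⟨rfl, by rw [hp, hσ2]⟩)
  have honly : ∀ x y y', y ≠ y' → co q b c y (app (g⁻¹ * h.sgn {o, p} * g) (b x)) ≠ 0 →
      co q b c y' (app (g⁻¹ * h.sgn {o, p} * g) (b x)) = 0 := by
    intro x y y' hyy h1
    obtain ⟨r, hr'⟩ := hz' x
    rcases hr' with e | e <;> rw [e] at h1 ⊢ <;> rcases eq_or_ne r y' with rfl | hry <;>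
      first
        | exact absurd (h.co_b_ne hyy.symm) h1
        | exact h.co_b_ne hry
        | (rw [co_neg, h.co_b_ne hyy.symm, neg_zero] at h1; exact absurd rfl h1)
        | (rw [co_neg, h.co_b_ne hry, neg_zero])
  have hfixline : ∀ x, app (g⁻¹ * h.sgn {o, p} * g) (b x) = -b x → False := by
    intro x e
    obtain ⟨y, hy1, hy2, hy3⟩ := hplane x
    have e1 : app (h.sgn {o, p}) (app g (b x)) = -app g (b x) := by
      rw [← map_neg, ← e, app_mul, app_mul, app_app_inv]
    have := congrArg (co q b c y) e1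
    rw [h.co_sgn, if_neg (by simp [hy1, hy2]), co_neg, co_app h] at this
    exact hy3 ((mul_eq_zero.1 (show 2 * co q b c x (v y) = 0 by linear_combination this)).resolve_left h.two)
  have hneg : ∀ x, co q b c x (app (g⁻¹ * h.sgn {o, p} * g) (b x)) = -1 → False := by
    intro x e
    refine hfixline x (h.ext_co fun a => ?_)
    rw [co_neg, h.co_b]
    by_cases hax : x = a
    · subst hax; rw [if_pos rfl, e]
    · rw [if_neg hax, neg_zero]
      exact honly x x a hax (by rw [e]; exact neg_ne_zero.2 one_ne_zero)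
  have hsumV := hmov o ho
  have hquartP : ∀ x y : Fin 6, x ≠ y → ({x, y} : Finset (Fin 6)) = {i, j} →
      4 * co q b c x (v o) ^ 2 = 1 := by
    intro x y hxy hset
    have hx : x ∈ ({i, j} : Finset (Fin 6)) := by rw [← hset]; simp
    have hy : y ∈ ({i, j} : Finset (Fin 6)) := by rw [← hset]; simp
    have hs2 : 2 * (co q b c x (v o) ^ 2 + co q b c y (v o) ^ 2) = 1 := by
      have e : ∑ a ∈ ({x, y} : Finset (Fin 6)), co q b c a (v o) ^ 2 =
          ∑ a ∈ ({i, j} : Finset (Fin 6)), co q b c a (v o) ^ 2 := by rw [hset]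
      rw [Finset.sum_pair hxy, Finset.sum_pair hij] at e
      rw [e]; exact hsumV
    by_contra hne
    have h1 := hsame x x Iff.rfl
    have h2 := hsame x y (iff_of_true hx hy)
    rw [if_pos rfl] at h1
    rw [if_neg hxy, zero_sub] at h2
    have h3 := honly x x y hxy (by rw [h1]; exact fun e => hne (by linear_combination -e))
    rw [h2, neg_eq_zero, mul_eq_zero, mul_eq_zero] at h3
    have h4 : (4 : F) ≠ 0 := by rw [show (4 : F) = 2 * 2 by norm_num]; exact mul_ne_zero h.two h.two
    rcases h3.resolve_left h4 with e | e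
    · refine hneg y ?_
      rw [hsame y y Iff.rfl, if_pos rfl]
      rw [e] at hs2
      linear_combination -2 * hs2
    · refine hneg x ?_
      rw [hsame x x Iff.rfl, if_pos rfl]
      rw [e] at hs2
      linear_combination -2 * hs2
  have hqi := hquartP i j hij rfl
  have hqj := hquartP j i hij.symm (Finset.pair_comm j i)
  have h4 : (4 : F) ≠ 0 := by rw [show (4 : F) = 2 * 2 by norm_num]; exact mul_ne_zero h.two h.two
  have hsum : ∑ x ∈ ({i, j} : Finset (Fin 6))ᶜ, 2 * co q b c x (v o) ^ 2 = 1 := by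
    have e := h.sum_sq (hvc o)
    rw [← Finset.sum_add_sum_compl ({i, j} : Finset (Fin 6)), Finset.sum_pair hij] at e
    rw [← Finset.mul_sum]
    linear_combination 2 * e - hsumV
  have hquart : ∀ x, x ≠ i → x ≠ j → co q b c x (v o) ≠ 0 → 4 * co q b c x (v o) ^ 2 = 1 := by
    intro x hxi hxj hx
    by_contra hne
    refine hneg x ?_
    have hd := hsame x x Iff.rfl
    rw [if_pos rfl] at hd
    have hrest : ∀ y ∈ ({i, j} : Finset (Fin 6))ᶜ, y ≠ x → co q b c y (v o) = 0 := by
      intro y hy hyx
      simp only [Finset.mem_compl, Finset.mem_insert, Finset.mem_singleton, not_or] at hy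
      have h2 := honly x x y (Ne.symm hyx) (by rw [hd]; exact fun e => hne (by linear_combination -e))
      rw [hsame x y (iff_of_false (by simp [hxi, hxj]) (by simp [hy.1, hy.2])), if_neg (Ne.symm hyx), zero_sub,
        neg_eq_zero] at h2
      exact (mul_eq_zero.1 ((mul_eq_zero.1 h2).resolve_left h4)).resolve_left hx
    rw [Finset.sum_eq_single x (fun y hy hyx => by rw [hrest y hy hyx]; ring)
      (fun e => absurd (by simp [hxi, hxj]) e)] at hsum
    rw [hd]
    linear_combination -2 * hsum
  obtain ⟨a, haQ, ha⟩ : ∃ a ∈ ({i, j} : Finset (Fin 6))ᶜ, co q b c a (v o) ≠ 0 := by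
    by_contra hn
    push Not at hn
    rw [Finset.sum_eq_zero fun x hx => by rw [hn x hx]; ring] at hsum
    exact zero_ne_one hsum
  obtain ⟨a', ha'Q, ha'a, ha'⟩ : ∃ a' ∈ ({i, j} : Finset (Fin 6))ᶜ, a' ≠ a ∧ co q b c a' (v o) ≠ 0 := by
    by_contra hn
    push Not at hn
    rw [Finset.sum_eq_single a (fun y hy hya => by rw [hn y hy hya]; ring) (fun e => absurd haQ e)] at hsum
    simp only [Finset.mem_compl, Finset.mem_insert, Finset.mem_singleton, not_or] at haQ
    exact one_ne_zero (α := F) (by linear_combination hquart a haQ.1 haQ.2 ha - 2 * hsum)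
  simp only [Finset.mem_compl, Finset.mem_insert, Finset.mem_singleton, not_or] at haQ ha'Q
  have hqa := hquart a haQ.1 haQ.2 ha
  have hout : ∀ x, x ≠ i → x ≠ j → x ≠ a → x ≠ a' → co q b c x (v o) = 0 := by
    intro x h1 h2 h3 h5
    by_contra hx
    have e1 := hsame a a' (iff_of_false (by simp [haQ.1, haQ.2]) (by simp [ha'Q.1, ha'Q.2]))
    have e2 := hsame a x (iff_of_false (by simp [haQ.1, haQ.2]) (by simp [h1, h2]))
    rw [if_neg (Ne.symm ha'a), zero_sub] at e1
    rw [if_neg (Ne.symm h3), zero_sub] at e2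
    have e3 := honly a a' x (Ne.symm h5) (by rw [e1]; exact neg_ne_zero.2 (mul_ne_zero h4 (mul_ne_zero ha ha')))
    rw [e2, neg_eq_zero] at e3
    exact mul_ne_zero h4 (mul_ne_zero ha hx) e3
  set A := co q b c i (v o) with hA
  set B := co q b c j (v o) with hB
  set C := co q b c a (v o) with hC
  have hB0 : B ≠ 0 := fun e => by rw [e] at hqj; simp at hqj
  have hA0 : A ≠ 0 := fun e => by rw [e] at hqi; simp at hqi
  have he1 : (4 * A * B) * (4 * A * B) = 1 := by
    linear_combination (4 * B ^ 2) * hqi + hqj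
  have hd1 : (4 * B * C) * (4 * B * C) = 1 := by
    linear_combination (4 * C ^ 2) * hqj + hqa
  set R := refl q (b i - (4 * A * B) • b j) * refl q (b j - (4 * B * C) • b a) with hR
  have hRX : R ∈ X := signed_pair_mem h hX hij (Ne.symm haQ.2) he1 hd1
  have hRco : ∀ x l, co q b c l (app R x) = if l = i then (4 * A * B) * ((4 * B * C) * co q b c a x) else
      if l = j then (4 * A * B) * co q b c i x else
      if l = a then (4 * B * C) * co q b c j x else co q b c l x := by
    intro x l
    rw [hR, app_mul, co_refl_diff h hij he1, co_refl_diff h (Ne.symm haQ.2) hd1, co_refl_diff h (Ne.symm haQ.2) hd1,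
      co_refl_diff h (Ne.symm haQ.2) hd1, if_pos rfl, if_neg hij, if_neg (Ne.symm haQ.1)]
    by_cases hli : l = i
    · rw [if_pos hli, if_pos hli]
    by_cases hlj : l = j
    · rw [if_neg hli, if_neg hli, if_pos hlj, if_pos hlj]
    rw [if_neg hli, if_neg hli, if_neg hlj, if_neg hlj, if_neg hlj]
  have hRv : app R (v o) = v o := h.ext_co fun l => by
    rw [hRco]
    by_cases hli : l = i
    · subst hli; rw [if_pos rfl]; linear_combination (4 * A * C ^ 2) * hqj + A * hqa
    by_cases hlj : l = j
    · subst hlj; rw [if_neg hli, if_pos rfl]; linear_combination B * hqi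
    by_cases hla : l = a
    · subst hla; rw [if_neg hli, if_neg hlj, if_pos rfl]; linear_combination C * hqj
    rw [if_neg hli, if_neg hlj, if_neg hla]
  set y := g * R * g⁻¹ with hy
  have hyo : app y (b o) = b o := by
    rw [hy, app_mul, app_mul]
    change app g (app R (v o)) = b o
    rw [hRv]
    exact app_app_inv g (b o)
  obtain ⟨r, hr'⟩ := H1 y (X.mul_mem (X.mul_mem hg hRX) (X.inv_mem hg)) o (Or.inl hyo) p
  obtain ⟨s', hs', hRw⟩ : ∃ s' : F, s' * s' = 1 ∧ app R (v p) = s' • v r := by
    have e : app R (v p) = app g⁻¹ (app y (b p)) := by simp [hy, hv, app_inv_app]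
    rcases hr' with e1 | e1
    · exact ⟨1, one_mul 1, by rw [e, e1, one_smul]⟩
    · exact ⟨-1, by ring, by rw [e, e1, map_neg, neg_one_smul]⟩
  have hs'0 : s' ≠ 0 := fun e => by rw [e] at hs'; simp at hs'
  have hε0 : ε ≠ 0 := fun e => by rw [e] at hε; simp at hε
  have hwa : co q b c a (v p) = ε * C := by
    rw [hvp, co_smul, h.co_sgn, if_neg (by simp [haQ.1, haQ.2])]
  have hwi : co q b c i (v p) = -(ε * A) := by
    rw [hvp, co_smul, h.co_sgn, if_pos (by simp)]; ring
  have hRwi : s' * co q b c i (v r) = (4 * A * B) * ((4 * B * C) * (ε * C)) := by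
    rw [← co_smul, ← hRw, hRco, if_pos rfl, hwa]
  have hrhs : (4 * A * B) * ((4 * B * C) * (ε * C)) = ε * A := by
    linear_combination (4 * A * C ^ 2 * ε) * hqj + (A * ε) * hqa
  rw [hrhs] at hRwi
  have hro : r ≠ o := fun e => by
    have e1 := ip_app (c := c) R (v p) (v o)
    rw [hRw, hRv, e, ip_smul_left, hvip, hvip, if_pos rfl, if_neg hpo, mul_one] at e1
    exact hs'0 e1
  have hrp : r ≠ p := fun e => by
    subst e
    have e1 : co q b c a' (app R (v p)) = co q b c a' (v p) := by
      rw [hRco, if_neg ha'Q.1, if_neg ha'Q.2, if_neg ha'a]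
    rw [hRw, co_smul] at e1
    have hw' : co q b c a' (v p) ≠ 0 := by
      rw [hvp, co_smul, h.co_sgn, if_neg (by simp [ha'Q.1, ha'Q.2])]
      exact mul_ne_zero hε0 ha'
    have hs1 : s' = 1 := mul_right_cancel₀ hw' (by rw [one_mul]; exact e1)
    rw [hs1, one_mul, hwi] at hRwi
    exact mul_ne_zero h.two (mul_ne_zero hε0 hA0) (by linear_combination -hRwi)
  have hrM : σ r ≠ r := fun e => by
    rw [(hij2 r e).1, mul_zero] at hRwi
    exact mul_ne_zero hε0 hA0 hRwi.symm
  have hsuppR : ∀ x, x ≠ i → x ≠ j → x ≠ a → x ≠ a' → co q b c x (v r) = 0 := by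
    intro x h1 h2 h3 h5
    have e : co q b c x (app R (v p)) = 0 := by
      rw [hRco, if_neg h1, if_neg h2, if_neg h3, hvp, co_smul, h.co_sgn, if_neg (by simp [h1, h2]),
        hout x h1 h2 h3 h5, mul_zero]
    rw [hRw, co_smul] at e
    exact (mul_eq_zero.1 e).resolve_left hs'0
  have hpartner : ∀ o₁ x, co q b c x (v o₁) = 0 → co q b c x (v (σ o₁)) = 0 := by
    intro o₁ x e
    have e1 : co q b c x (app (h.sgn {i, j}) (v o₁)) = 0 := by rw [h.co_sgn]; split_ifs <;> simp [e]
    rcases hflip o₁ with e2 | e2 <;> rw [e2] at e1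
    · exact e1
    · rwa [co_neg, neg_eq_zero] at e1
  obtain ⟨m, hm⟩ := exists_outside (S := ({i, j, a, a'} : Finset (Fin 6)))
    (lt_of_le_of_lt Finset.card_le_four (by norm_num))
  simp only [Finset.mem_insert, Finset.mem_singleton, not_or] at hm
  refine hback s t hst (Or.inl ⟨hs, ht⟩) m fun y' hys hyt => ?_
  have hyM : y' ∈ M := by
    by_contra hn
    have hsub : ({s, t, y'} : Finset (Fin 6)) ⊆ Mᶜ := by
      intro x hx
      simp only [Finset.mem_insert, Finset.mem_singleton] at hx
      rw [Finset.mem_compl]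
      rcases hx with rfl | rfl | rfl
      · rw [hMmem]; exact not_not.2 hs
      · rw [hMmem]; exact not_not.2 ht
      · exact hn
    have := Finset.card_le_card hsub
    rw [Finset.card_compl, Fintype.card_fin, hMcard, Finset.card_insert_of_notMem (by simp [hst, Ne.symm hys]),
      Finset.card_pair (Ne.symm hyt)] at this
    omega
  have hrm := (hMmem r).2 hrM
  rw [hMeq] at hrm hyM
  simp only [Finset.mem_insert, Finset.mem_singleton] at hrm hyM
  have hvo := hout m hm.1 hm.2.1 hm.2.2.1 hm.2.2.2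
  have hvr := hsuppR m hm.1 hm.2.1 hm.2.2.1 hm.2.2.2
  have hpair : co q b c m (v o') = 0 ∧ co q b c m (v p') = 0 := by
    rcases hrm with e | e | e | e
    · exact absurd e hro
    · exact absurd e hrp
    · subst e; exact ⟨hvr, hpartner r m hvr⟩
    · subst e
      refine ⟨?_, hvr⟩
      have := hpartner (σ o') m hvr
      rwa [hσ2] at this
  rcases hyM with rfl | rfl | rfl | rfl
  · exact hvo
  · exact hpartner o m hvo
  · exact hpair.1
  · exact hpair.2

/-- If a conjugate of a sign change on two or four vectors is a signed permutation, so is the conjugating element. -/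
theorem conj_good {K : Finset (Fin 6)} (hK : K.card = 2 ∨ K.card = 4) {g : O q} (hg : g ∈ X)
    (hz : Mono b (g * h.sgn K * g⁻¹)) : Mono b g := by
  classical
  rcases hK with e | e
  · obtain ⟨i, j, hij, rfl⟩ := Finset.card_eq_two.1 e
    exact conj_pair h hX H1 hg hij hz
  · obtain ⟨i, j, hij, hK'⟩ := Finset.card_eq_two.1 (show Kᶜ.card = 2 by
      rw [Finset.card_compl, Fintype.card_fin, e])
    refine conj_pair h hX H1 hg hij ?_
    rw [← hK', h.sgn_compl, show g * (h.sgn Finset.univ * h.sgn K) * g⁻¹ =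
      (g * h.sgn Finset.univ) * (h.sgn K * g⁻¹) by group, (h.commute_univ g).eq,
      show h.sgn Finset.univ * g * (h.sgn K * g⁻¹) = h.sgn Finset.univ * (g * h.sgn K * g⁻¹) by group]
    exact mono_mul (h.mono_sgn _) hz

variable [Finite F]

/-- Centralisers of signed permutations exchanging a first pair and fixing a third one. -/
theorem comm_swap {z x : O q} (hz2 : app z (b 0) = b 1 ∨ app z (b 0) = -b 1)
    (hz4 : app z (b 4) = b 4 ∨ app z (b 4) = -b 4) (hc01 : Commute z (h.sgn {0, 1}))
    (hc45 : Commute z (h.sgn {4, 5})) (hx : x ∈ X) (hc : Commute x z) : Mono b x := by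
  classical
  set Y := X ⊓ Subgroup.centralizer {z} with hY
  have hmem : ∀ t, t ∈ Y ↔ t ∈ X ∧ Commute z t := fun t => by
    rw [hY, Subgroup.mem_inf, Subgroup.mem_centralizer_iff]
    exact and_congr_right fun _ => ⟨fun h' => h' z (Set.mem_singleton z), fun h' u hu => by
      rw [Set.mem_singleton_iff.1 hu]; exact h'⟩
  refine h.all_mono_core hX (Y := Y) (fun K : Finset (Fin 6) => K.card = 2 ∨ K.card = 4)
    (fun K hK t ht hcK => comm_good h hX H1 hK ((hmem t).1 ht).1 hcK)
    (fun K hK t ht htK => conj_good h hX H1 hK ((hmem t).1 ht).1 htK) {0, 1} {4, 5}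
    ((hmem _).2 ⟨h.sgn_mem hX _ (by decide), hc01⟩) ((hmem _).2 ⟨h.sgn_mem hX _ (by decide), hc45⟩)
    (Or.inl (by decide)) (Or.inl (by decide)) (fun L hL ⟨t, ht, hte⟩ => ?_) x ((hmem x).2 ⟨hx, hc.symm⟩)
  obtain ⟨htX, htz⟩ := (hmem t).1 ht
  have hLc : L.card = 2 := by rw [hL]; rfl
  have htm : Mono b t := conj_good h hX H1 (Or.inl (show ({0, 1} : Finset (Fin 6)).card = 2 by decide)) htX (by rw [hte]; exact h.mono_sgn L)
  have hLJ : L ≠ {4, 5} := by
    rintro rfl
    obtain ⟨l, hl⟩ := htm 0
    have hl45 : l ∈ ({4, 5} : Finset (Fin 6)) := by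
      by_contra hn
      have e := congrArg (fun T => co q b c l (app T (app t (b 0)))) hte
      simp only [app_mul, app_inv_app] at e
      rw [h.co_sgn, if_neg hn, h.sgn_b, if_pos (by simp), map_neg, co_neg] at e
      rcases hl with e' | e' <;> rw [e'] at e <;> simp only [co_neg, h.co_b_self] at e
      · exact h.two (by linear_combination -e)
      · exact h.two (by linear_combination e)
    obtain ⟨l', hl'⟩ := htm 1
    have e0 : app z (app t (b 0)) = app t (app z (b 0)) := by rw [← app_mul, ← app_mul, htz.eq]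
    have hzl : app z (b l) = b l' ∨ app z (b l) = -b l' := by
      rcases hl with e | e <;> rcases hl' with e' | e' <;> rcases hz2 with e'' | e'' <;>
        simp only [e, e', e'', map_neg, neg_neg] at e0 <;>
        first
          | exact Or.inl e0
          | exact Or.inr e0
          | exact Or.inl (neg_injective e0)
          | exact Or.inr (neg_eq_iff_eq_neg.1 e0)
    have hne : l ≠ l' := by
      rintro rfl
      have e1 : ip q c (app t (b 0)) (app t (b 1)) = 0 := by rw [ip_app, h.ip_b, if_neg (by decide)]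
      rcases hl with e | e <;> rcases hl' with e' | e' <;>
        simp [e, e', ip_neg_left, ip_neg_right, h.ip_b] at e1
    -- the pair of fixed lines
    have h5 : app z (b l) = b l ∨ app z (b l) = -b l := by
      simp only [Finset.mem_insert, Finset.mem_singleton] at hl45
      rcases hl45 with rfl | rfl
      · exact hz4
      · have hcm : ∀ K, Commute z (h.sgn K) → ∀ p, ¬ ((5 : Fin 6) ∈ K ↔ p ∈ K) → co q b c p (app z (b 5)) = 0 :=
          fun K hK p hp => co_comm h hK hp
        refine unit_line h (by rw [Q_app, h.val]) fun p hp => ?_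
        by_cases hp4 : p = 4
        · subst hp4
          have e1 : ip q c (app z (b 5)) (app z (b 4)) = 0 := by rw [ip_app, h.ip_b, if_neg (by decide)]
          rcases hz4 with e | e <;> rw [e] at e1
          · exact e1
          · rw [ip_neg_right, neg_eq_zero] at e1; exact e1
        · exact hcm _ hc45 p (by simp [hp, hp4])
    refine hne (h.line_inj ?_)
    rcases h5 with e | e <;> rcases hzl with e' | e' <;> rw [e] at e'
    · exact Or.inl e'
    · exact Or.inr e'
    · exact Or.inr (neg_eq_iff_eq_neg.1 e')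
    · exact Or.inl (neg_injective e')
  exact ⟨fun hne => symm_pairs hLc (by decide) hne, hLJ, symm_pairs hLc (by decide) hLJ⟩

/-- All elements are signed permutations. -/
theorem all_mono : ∀ g ∈ X, Mono b g := by
  classical
  intro g hg
  set E : Finset (Fin 6) := {0, 1} with hEdef
  have hEc : E.card = 2 := by rw [hEdef]; decide
  set u := h.perm (Equiv.swap 0 1 * Equiv.swap 2 3) with hudef
  have huX : u ∈ X := h.perm_mem hX (by decide)
  have hu0 : app u (b 0) = b 1 := by rw [hudef, h.perm_b]; congr 1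
  have hEX : h.sgn E ∈ X := h.sgn_mem hX _ (by decide)
  have hgood2 : ∀ K : Finset (Fin 6), K.card = 2 → K.card = 2 ∨ K.card = 4 := fun K e => Or.inl e
  set s := g * h.sgn E * g⁻¹ with hsdef
  have hsX : s ∈ X := X.mul_mem (X.mul_mem hg hEX) (X.inv_mem hg)
  have hss : s * s = 1 := by
    rw [hsdef, show g * h.sgn E * g⁻¹ * (g * h.sgn E * g⁻¹) = g * (h.sgn E * h.sgn E) * g⁻¹ by group, sq_one h,
      mul_one, mul_inv_cancel]
  have huu : u * u = 1 := by
    rw [hudef, ← h.perm_mul, show Equiv.swap (0 : Fin 6) 1 * Equiv.swap 2 3 * (Equiv.swap 0 1 * Equiv.swap 2 3) = 1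
      by decide, h.perm_one]
  set h' := s * u with hh'
  obtain ⟨hsh, huh, hhu, hhs⟩ := inv_pair hss huu
  rw [← hh'] at hsh huh hhu hhs
  have hh'X : h' ∈ X := X.mul_mem hsX huX
  have hpow : ∀ k : ℤ, h' ^ k * g * h.sgn E * (h' ^ k * g)⁻¹ = h' ^ k * s * (h' ^ k)⁻¹ := fun k => by
    rw [hsdef]; group
  have hgk : ∀ k : ℤ, h' ^ k * g ∈ X := fun k => X.mul_mem (X.zpow_mem hh'X k) hg
  have hnconj : ∀ t ∈ X, t * h.sgn E * t⁻¹ ≠ u := by
    intro t ht e
    have hm := conj_good h hX H1 (Or.inl hEc) ht (by rw [e]; exact h.mono_perm _)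
    obtain ⟨L, -, hL⟩ := h.sgn_conj hm E
    rw [e] at hL
    have := congrArg (fun T => co q b c 1 (app T (b 0))) hL
    simp only [hu0, h.co_b_self, h.co_sgn, h.co_b_ne (show (0 : Fin 6) ≠ 1 by decide), neg_zero, ite_self] at this
    exact one_ne_zero this
  rcases Nat.even_or_odd' (orderOf h') with ⟨m, hm | hm⟩
  · have hm0 : 0 < m := by have := orderOf_pos h'; omega
    set z := h' ^ (m : ℤ) with hzdef
    have hz1 : z ≠ 1 := by
      rw [hzdef, zpow_natCast]
      exact pow_ne_one_of_lt_orderOf (by omega) (by omega)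
    have hzz : h' ^ (2 * (m : ℤ)) = 1 := by
      rw [show (2 * (m : ℤ)) = ((2 * m : ℕ) : ℤ) by push_cast; ring, zpow_natCast, ← hm, pow_orderOf_eq_one]
    have hzinv : z⁻¹ = z := inv_eq_of_mul_eq_one_right (by rw [hzdef, ← zpow_add, ← two_mul, hzz])
    have hcomm : ∀ t : O q, t * h' * t⁻¹ = h'⁻¹ → Commute z t := by
      intro t ht
      have h1 : t * z * t⁻¹ = z := by rw [hzdef, ← conj_zpow, ht, inv_zpow]; exact hzinv
      exact (show t * z = z * t by
        calc t * z = t * z * t⁻¹ * t := by group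
          _ = _ := by rw [h1]).symm
    have hzX : z ∈ X := X.zpow_mem hh'X _
    have hu4 : app u (b 4) = b 4 := by rw [hudef, h.perm_b]; congr 1
    have hucomm : ∀ K : Finset (Fin 6), (∀ o, Equiv.swap (0 : Fin 6) 1 (Equiv.swap 2 3 o) ∈ K ↔ o ∈ K) →
        Commute u (h.sgn K) := fun K hK => ext_app fun x => h.ext_co fun o => by
      have hsym : (Equiv.swap (0 : Fin 6) 1 * Equiv.swap 2 3).symm o = Equiv.swap 2 3 (Equiv.swap 0 1 o) := by
        rw [Equiv.Perm.mul_def, Equiv.symm_trans_apply, Equiv.symm_swap, Equiv.symm_swap]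
      have hK' : Equiv.swap (2 : Fin 6) 3 (Equiv.swap 0 1 o) ∈ K ↔ o ∈ K := by
        rw [← hK (Equiv.swap (2 : Fin 6) 3 (Equiv.swap 0 1 o)), Equiv.swap_apply_self, Equiv.swap_apply_self]
      simp only [hudef, app_mul, h.co_perm, h.co_sgn, hsym]
      by_cases ho : o ∈ K
      · rw [if_pos ho, if_pos (hK'.2 ho)]
      · rw [if_neg ho, if_neg (hK'.not.2 ho)]
    have hzmono : Mono b z := comm_swap h hX H1 (z := u) (Or.inl hu0) (Or.inl hu4) (hucomm _ (by decide))
      (hucomm _ (by decide)) hzX (hcomm u huh)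
    rcases Nat.even_or_odd' m with ⟨k, hk | hk⟩
    · have hzs : z * s = h' ^ (k : ℤ) * s * (h' ^ (k : ℤ))⁻¹ := by
        rw [conj_shift hsh, hzdef, hk]; push_cast; rfl
      set g' := g⁻¹ * h' ^ (k : ℤ) * g
      have hg'X : g' ∈ X := X.mul_mem (X.mul_mem (X.inv_mem hg) (X.zpow_mem hh'X _)) hg
      set y := g⁻¹ * (z * s) * g with hydef
      have hy : y = g' * h.sgn E * g'⁻¹ := by
        change y = g⁻¹ * h' ^ (k : ℤ) * g * h.sgn E * (g⁻¹ * h' ^ (k : ℤ) * g)⁻¹
        rw [hydef, hzs, hsdef]; group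
      have hyE : Commute y (h.sgn E) :=
        conj_commute (show Commute s (z * s) from (hcomm s hsh).symm.mul_right (Commute.refl s))
      have hymono : Mono b y := comm_pair h hX H1 (by decide)
        (X.mul_mem (X.mul_mem (X.inv_mem hg) (X.mul_mem hzX hsX)) hg) hyE
      rw [hy] at hymono
      obtain ⟨L, hLc, hL⟩ := h.sgn_conj (conj_good h hX H1 (Or.inl hEc) hg'X hymono) E
      have hzg : g * h.sgn (symmDiff L E) * g⁻¹ = z := by
        rw [← h.sgn_mul, ← hL, ← hy, hydef, show g⁻¹ * (z * s) * g * h.sgn E = g⁻¹ * (z * s) * (g * h.sgn E) by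
          group, show g * h.sgn E = s * g by rw [hsdef]; group,
          show g * (g⁻¹ * (z * s) * (s * g)) * g⁻¹ = z * (s * s) by group, hss, mul_one]
      have hne : L ≠ E := fun e => hz1 (by
        rw [← hzg, e, symmDiff_self, Finset.bot_eq_empty, h.sgn_empty, mul_one, mul_inv_cancel])
      refine conj_good h hX H1 ?_ hg (by rw [hzg]; exact hzmono)
      exact symm_pairs (by rw [hLc, hEc]) hEc hne
    · have hzu : z * u = h' ^ (k : ℤ) * s * (h' ^ (k : ℤ))⁻¹ := by
        rw [conj_shift hsh, hzdef, hk]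
        push_cast
        rw [zpow_add_one, mul_assoc, mul_assoc]
        congr 1
        rw [← hhu, mul_assoc, huu, mul_one]
      have hzumono : Mono b (z * u) := mono_mul hzmono (h.mono_perm _)
      rw [hzu, ← hpow] at hzumono
      obtain ⟨L, hLc, hL⟩ := h.sgn_conj (conj_good h hX H1 (Or.inl hEc) (hgk _) hzumono) E
      rw [hpow, ← hzu] at hL
      have hzeq : z = h.sgn L * u := by rw [← hL, mul_assoc, huu, mul_one]
      have hsm : Mono b s := by
        have hb : ∀ o, app z (b o) = b (Equiv.swap 0 1 (Equiv.swap 2 3 o)) ∨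
            app z (b o) = -b (Equiv.swap 0 1 (Equiv.swap 2 3 o)) := fun o => by
          rw [hzeq, app_mul, hudef, h.perm_b, Equiv.Perm.mul_apply, h.sgn_b]
          split_ifs <;> simp
        have hzK : ∀ K, Commute u (h.sgn K) → Commute z (h.sgn K) := fun K e => by
          rw [hzeq]
          refine (Commute.mul_left ?_ e)
          show h.sgn L * h.sgn K = h.sgn K * h.sgn L
          rw [h.sgn_mul, h.sgn_mul, symmDiff_comm]
        exact comm_swap h hX H1 (z := z) (hb 0) (hb 4) (hzK _ (hucomm _ (by decide)))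
          (hzK _ (hucomm _ (by decide))) hsX (hcomm s hsh).symm
      exact conj_good h hX H1 (Or.inl hEc) hg hsm
  · exfalso
    have hone : h' ^ (2 * (m : ℤ) + 1) = 1 := by
      rw [show (2 * (m : ℤ) + 1) = ((2 * m + 1 : ℕ) : ℤ) by push_cast; ring, zpow_natCast, ← hm,
        pow_orderOf_eq_one]
    have hus : h' ^ (m : ℤ) * s * (h' ^ (m : ℤ))⁻¹ = u := by
      have h1 : h' ^ (2 * (m : ℤ)) = h'⁻¹ := by
        rw [zpow_add_one] at hone
        exact eq_inv_of_mul_eq_one_left hone
      rw [conj_shift hsh, h1, hhs]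
    rw [← hpow] at hus
    exact hnconj _ (hgk _) hus

end CfsgLib.FrameSix
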