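import Cfsg.Agent.Lib.FrameSix.Norm

/-!
Standard coordinates for a symplectic-type group of order 64 with centre of order 4.
-/

set_option autoImplicit false
set_option linter.unusedSectionVars false

namespace CfsgLib.FrameSix

open Matrix CfsgLib.PrimeElusive.SymplType

open scoped MatrixGroups

variable {F : Type*} [Field F] {R : Subgroup (GL (Fin 4) F)}

theorem exists_coords (D : Data R 4) : ∃ c : F, Nonempty (Coords R c) := by
  classical
  obtain ⟨fr⟩ := D.frame_four rfl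
  obtain ⟨i, hiR, ⟨c, hc⟩, hi2⟩ := D.exists_i rfl
  have hc2 : c * c = -1 := by
    rw [show mt i = c • 1 from hc, smul_mul_smul_comm, one_mul] at hi2
    simpa using congrFun (congrFun hi2 0) 0
  set A := c • mt fr.a with hA
  set B := c • mt fr.b with hB
  set C := mt fr.c with hC
  set Dd := mt fr.d with hD
  have sA : A * A = 1 := by
    rw [hA, smul_mul_smul_comm, fr.saa, hc2, smul_neg, neg_one_smul, neg_neg]
  have sB : B * B = 1 := by
    rw [hB, smul_mul_smul_comm, fr.sbb, hc2, smul_neg, neg_one_smul, neg_neg]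
  have sC : C * C = 1 := fr.scc
  have sD : Dd * Dd = 1 := fr.sdd
  have aAB : A * B = -(B * A) := by
    rw [hA, hB, smul_mul_smul_comm, smul_mul_smul_comm, show mt fr.a * mt fr.b = -(mt fr.b * mt fr.a) from fr.ab,
      smul_neg]
  have aCD : C * Dd = -(Dd * C) := fr.cd
  have cAC : A * C = C * A := by rw [hA, smul_mul_assoc, mul_smul_comm, hC, cm fr.ac]
  have cAD : A * Dd = Dd * A := by rw [hA, smul_mul_assoc, mul_smul_comm, hD, cm fr.ad]
  have cBC : B * C = C * B := by rw [hB, smul_mul_assoc, mul_smul_comm, hC, cm fr.bc]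
  have cBD : B * Dd = Dd * B := by rw [hB, smul_mul_assoc, mul_smul_comm, hD, cm fr.bd]
  set E := (1 + A) * (1 + C) with hE
  have hE0 : E ≠ 0 := by
    intro e
    have e1 : E.trace = 4 := by
      have t1 : (mt fr.a).trace = 0 := by
        simpa [PrimeElusive.SymplType.Frame.mono, PrimeElusive.SymplType.pr] using fr.trace_mono D 1 0 (by decide)
      have t2 : (mt fr.c).trace = 0 := by
        simpa [PrimeElusive.SymplType.Frame.mono, PrimeElusive.SymplType.pr] using fr.trace_mono D 0 1 (by decide)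
      have t3 : (mt fr.a * mt fr.c).trace = 0 := by
        simpa [PrimeElusive.SymplType.Frame.mono, PrimeElusive.SymplType.pr] using fr.trace_mono D 1 1 (by decide)
      rw [hE, add_mul, mul_add, mul_add, one_mul, one_mul, mul_one, Matrix.trace_add, Matrix.trace_add,
        Matrix.trace_add, hA, smul_mul_assoc, Matrix.trace_smul, Matrix.trace_smul, hC, D.trace_one, t1, t2, t3]
      simp
    rw [e, Matrix.trace_zero] at e1
    exact D.four_ne e1.symm
  obtain ⟨k, hk⟩ : ∃ k, (E *ᵥ Pi.single k 1) ≠ 0 := by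
    by_contra hn
    push Not at hn
    exact hE0 (Matrix.ext_of_mulVec_single fun k => by rw [hn k, Matrix.zero_mulVec])
  set v := E *ᵥ Pi.single k 1 with hv
  have Av : A *ᵥ v = v := by
    rw [hv, Matrix.mulVec_mulVec]
    congr 1
    rw [hE, ← mul_assoc, show A * (1 + A) = 1 + A by rw [mul_add, mul_one, sA, add_comm]]
  have Cv : C *ᵥ v = v := by
    rw [hv, Matrix.mulVec_mulVec]
    congr 1
    rw [hE, ← mul_assoc, show C * (1 + A) = (1 + A) * C by rw [mul_add, add_mul, mul_one, one_mul, cAC],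
      mul_assoc, show C * (1 + C) = 1 + C by rw [mul_add, mul_one, sC, add_comm]]
  have hA_B : ∀ w, A *ᵥ (B *ᵥ w) = -(B *ᵥ (A *ᵥ w)) := fun w => by
    rw [Matrix.mulVec_mulVec, aAB, Matrix.neg_mulVec, Matrix.mulVec_mulVec]
  have hA_D : ∀ w, A *ᵥ (Dd *ᵥ w) = Dd *ᵥ (A *ᵥ w) := fun w => by
    rw [Matrix.mulVec_mulVec, cAD, Matrix.mulVec_mulVec]
  have hC_D : ∀ w, C *ᵥ (Dd *ᵥ w) = -(Dd *ᵥ (C *ᵥ w)) := fun w => by
    rw [Matrix.mulVec_mulVec, aCD, Matrix.neg_mulVec, Matrix.mulVec_mulVec]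
  have hC_B : ∀ w, C *ᵥ (B *ᵥ w) = B *ᵥ (C *ᵥ w) := fun w => by
    rw [Matrix.mulVec_mulVec, ← cBC, Matrix.mulVec_mulVec]
  have hD_B : ∀ w, Dd *ᵥ (B *ᵥ w) = B *ᵥ (Dd *ᵥ w) := fun w => by
    rw [Matrix.mulVec_mulVec, ← cBD, Matrix.mulVec_mulVec]
  have hB_B : ∀ w, B *ᵥ (B *ᵥ w) = w := fun w => by rw [Matrix.mulVec_mulVec, sB, Matrix.one_mulVec]
  have hD_D : ∀ w, Dd *ᵥ (Dd *ᵥ w) = w := fun w => by rw [Matrix.mulVec_mulVec, sD, Matrix.one_mulVec]
  let cols : Fin 4 → Fin 4 → F := ![v, Dd *ᵥ v, B *ᵥ v, B *ᵥ (Dd *ᵥ v)]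
  set P : Matrix (Fin 4) (Fin 4) F := Matrix.of fun r l => cols l r with hP
  have hcol : ∀ x, P *ᵥ x = x 0 • v + x 1 • (Dd *ᵥ v) + x 2 • (B *ᵥ v) + x 3 • (B *ᵥ (Dd *ᵥ v)) := fun x => by
    funext r
    simp [hP, cols, Matrix.mulVec, dotProduct, Fin.sum_univ_four]
    ring
  have eA : A * P = P * A0 := Matrix.ext_of_mulVec_single fun l => by
    rw [← Matrix.mulVec_mulVec, ← Matrix.mulVec_mulVec, hcol, hcol]
    simp only [Matrix.mulVec_add, Matrix.mulVec_smul, hA_B, hA_D, Av]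
    fin_cases l <;> simp [A0, Matrix.mulVec, dotProduct, Fin.sum_univ_four]
  have eB : B * P = P * B0 := Matrix.ext_of_mulVec_single fun l => by
    rw [← Matrix.mulVec_mulVec, ← Matrix.mulVec_mulVec, hcol, hcol]
    simp only [Matrix.mulVec_add, Matrix.mulVec_smul, hB_B]
    fin_cases l <;> simp [B0, Matrix.mulVec, dotProduct, Fin.sum_univ_four]
  have eC : C * P = P * C0 := Matrix.ext_of_mulVec_single fun l => by
    rw [← Matrix.mulVec_mulVec, ← Matrix.mulVec_mulVec, hcol, hcol]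
    simp only [Matrix.mulVec_add, Matrix.mulVec_smul, hC_B, hC_D, Cv, Matrix.mulVec_neg]
    fin_cases l <;> simp [C0, Matrix.mulVec, dotProduct, Fin.sum_univ_four]
  have eD : Dd * P = P * D0 := Matrix.ext_of_mulVec_single fun l => by
    rw [← Matrix.mulVec_mulVec, ← Matrix.mulVec_mulVec, hcol, hcol]
    simp only [Matrix.mulVec_add, Matrix.mulVec_smul, hD_B, hD_D]
    fin_cases l <;> simp [D0, Matrix.mulVec, dotProduct, Fin.sum_univ_four]
  have hker : ∀ x, P *ᵥ x = 0 → x 0 = 0 := by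
    intro x hx
    have h1 : ∀ (M N : Matrix (Fin 4) (Fin 4) F), M * P = P * N → ∀ y, P *ᵥ y = 0 → P *ᵥ (y + N *ᵥ y) = 0 := by
      intro M N e y hy
      rw [Matrix.mulVec_add, hy, Matrix.mulVec_mulVec, ← e, ← Matrix.mulVec_mulVec, hy, Matrix.mulVec_zero, add_zero]
    have h2 := h1 _ _ eC _ (h1 _ _ eA x hx)
    rw [hcol] at h2
    simp [A0, C0, Matrix.mulVec, dotProduct, Fin.sum_univ_four, Matrix.vecHead, Matrix.vecTail] at h2
    refine (mul_eq_zero.1 (show (4 : F) * x 0 = 0 from ?_)).resolve_left D.four_ne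
    linear_combination h2.resolve_right hk
  have hdet : P.det ≠ 0 := by
    intro e
    obtain ⟨x, hx0, hx⟩ := Matrix.exists_mulVec_eq_zero_iff.2 e
    have hmv : ∀ (M N : Matrix (Fin 4) (Fin 4) F), M * P = P * N → ∀ y, P *ᵥ y = 0 → P *ᵥ (N *ᵥ y) = 0 := by
      intro M N e' y hy
      rw [Matrix.mulVec_mulVec, ← e', ← Matrix.mulVec_mulVec, hy, Matrix.mulVec_zero]
    have z0 := hker x hx
    have z1 := hker _ (hmv _ _ eD x hx)
    have z2 := hker _ (hmv _ _ eB x hx)
    have z3 := hker _ (hmv _ _ eB _ (hmv _ _ eD x hx))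
    simp [D0, B0, Matrix.mulVec, dotProduct, Fin.sum_univ_four] at z1 z2 z3
    exact hx0 (funext fun r => by fin_cases r <;> assumption)
  refine ⟨c, ⟨{
    fr := fr
    P := Matrix.GeneralLinearGroup.mkOfDetNeZero P hdet
    sq := hc2
    two := D.two
    ea := ?_
    eb := ?_
    ec := eC
    ed := eD
    ci := i
    hci := hiR
    ei := hc }⟩⟩
  · show mt fr.a * P = P * ((-c) • A0)
    rw [Matrix.mul_smul, ← eA, hA, smul_mul_assoc, smul_smul, neg_mul, hc2, neg_neg, one_smul]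
  · show mt fr.b * P = P * ((-c) • B0)
    rw [Matrix.mul_smul, ← eB, hB, smul_mul_assoc, smul_smul, neg_mul, hc2, neg_neg, one_smul]

end CfsgLib.FrameSix
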