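import Cfsg.Agent.Lib.GeomClasses.FrameSmall

/-!
Six frame vectors: if every element fixing a frame line is a signed permutation, so is every element of the group.
-/

set_option autoImplicit false
set_option linter.unusedSectionVars false

namespace CfsgLib.FrameSix

open QuadraticMap CfsgLib.Orth CfsgLib.GeomClasses.Frame

variable {ι : Type} [Fintype ι] [DecidableEq ι] {F : Type*} [Field F]
  {q : QuadraticForm F (ι → F)} {b : Fin 6 → ι → F} {c : F}

variable (h : IsFrame q b c)
include h

theorem unit_line {v : ι → F} (hv : q v = c) {j : Fin 6} (hj : ∀ o, o ≠ j → co q b c o v = 0) :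
    v = b j ∨ v = -b j := by
  have hvj : v = co q b c j v • b j := h.ext_co fun o => by
    rw [co_smul, h.co_b]
    split_ifs with ho
    · rw [← ho, mul_one]
    · rw [mul_zero, hj o (Ne.symm ho)]
  have h1 := (h.unit_iff v).1 hv
  rw [hvj, ip_smul_left, ip_smul_right, h.ip_b, if_pos rfl, mul_one] at h1
  rcases mul_self_eq_one_iff.1 h1 with e | e <;> [left; right] <;> rw [hvj, e] <;> simp

/-- Coordinates of an image are coordinates of a preimage of the frame. -/
theorem co_app (g : O q) (o x : Fin 6) : co q b c o (app g (b x)) = co q b c x (app g⁻¹ (b o)) := by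
  change ip q c (app g (b x)) (b o) = ip q c (app g⁻¹ (b o)) (b x)
  rw [← ip_app g⁻¹, app_inv_app, ip_comm]

theorem co_comm {x : O q} {K : Finset (Fin 6)} (hc : Commute x (h.sgn K)) {o p : Fin 6}
    (hop : ¬ (o ∈ K ↔ p ∈ K)) : co q b c p (app x (b o)) = 0 := by
  have h2 := congrArg (fun t => co q b c p (app t (b o))) hc.eq
  simp only [app_mul, h.co_sgn, h.sgn_b] at h2
  refine (mul_eq_zero.1 (show 2 * co q b c p (app x (b o)) = 0 from ?_)).resolve_left h.two
  by_cases ho : o ∈ K
  · have hp : p ∉ K := fun hp => hop (iff_of_true ho hp)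
    rw [if_pos ho, if_neg hp, map_neg, co_neg] at h2
    linear_combination -h2
  · have hp : p ∈ K := by
      by_contra hp
      exact hop (iff_of_false ho hp)
    rw [if_neg ho, if_pos hp] at h2
    linear_combination h2

/-- Conjugate sign changes move equally many vectors. -/
theorem card_le_of_conj {g : O q} {K L : Finset (Fin 6)} (he : g * h.sgn K * g⁻¹ = h.sgn L) :
    K.card ≤ L.card := by
  classical
  set W := Submodule.span F ((L.image b : Finset (ι → F)) : Set (ι → F)) with hW
  have hmem : ∀ o ∈ K, app g (b o) ∈ W := by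
    intro o ho
    rw [← h.expand (app g (b o))]
    refine Submodule.sum_mem _ fun l _ => ?_
    by_cases hl : l ∈ L
    · exact Submodule.smul_mem _ _ (Submodule.subset_span (by simpa using ⟨l, hl, rfl⟩))
    · have e := congrArg (fun t => co q b c l (app t (app g (b o)))) he
      simp only [app_mul, app_inv_app, h.sgn_b, if_pos ho, h.co_sgn, if_neg hl, map_neg, co_neg] at e
      rw [(mul_eq_zero.1 (show 2 * co q b c l (app g (b o)) = 0 by linear_combination -e)).resolve_left h.two,
        zero_smul]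
      exact W.zero_mem
  have hli : LinearIndependent F fun o : K => app g (b o) :=
    (h.linearIndependent.comp _ Subtype.val_injective).map' (app g)
      (LinearMap.ker_eq_bot.2 fun u v e => by
        have := congrArg (app g⁻¹) e
        rwa [app_inv_app, app_inv_app] at this)
  have hli' : LinearIndependent F fun o : K => (⟨app g (b o), hmem o o.2⟩ : W) := LinearIndependent.of_comp W.subtype hli
  have h1 := hli'.fintype_card_le_finrank
  rw [Fintype.card_coe] at h1
  exact h1.trans ((finrank_span_finset_le_card _).trans Finset.card_image_le)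

theorem card_eq_of_conj {g : O q} {K L : Finset (Fin 6)} (he : g * h.sgn K * g⁻¹ = h.sgn L) :
    K.card = L.card :=
  le_antisymm (card_le_of_conj h he) (card_le_of_conj h (g := g⁻¹) (by rw [← he]; group))

theorem sq_one (K : Finset (Fin 6)) : h.sgn K * h.sgn K = 1 := by
  rw [h.sgn_mul, symmDiff_self, Finset.bot_eq_empty, h.sgn_empty]

theorem mono_of_univ_mul {z : O q} : Mono b (h.sgn Finset.univ * z) ↔ Mono b z := by
  refine ⟨fun hz => ?_, fun hz => mono_mul (h.mono_sgn _) hz⟩
  have := mono_mul (h.mono_sgn Finset.univ) hz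
  rwa [← mul_assoc, sq_one h, one_mul] at this

theorem co_refl_diff {i j : Fin 6} (hij : i ≠ j) {e : F} (he : e * e = 1) (x : ι → F) (l : Fin 6) :
    co q b c l (app (refl q (b i - e • b j)) x) =
      if l = i then e * co q b c j x else if l = j then e * co q b c i x else co q b c l x := by
  have hqv : q (b i - e • b j) = 2 * c := by
    rw [h.q_eq, ip_sub_left, ip_sub_right, ip_sub_right, ip_smul_left, ip_smul_left, ip_smul_right, ip_smul_right,
      h.ip_b, h.ip_b, h.ip_b, h.ip_b, if_pos rfl, if_pos rfl, if_neg hij, if_neg hij.symm]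
    linear_combination c * he
  have h1 : (q (b i - e • b j))⁻¹ * polar q x (b i - e • b j) = co q b c i x - e * co q b c j x := by
    change _ = ip q c x (b i) - e * ip q c x (b j)
    rw [← ip_smul_right, ← ip_sub_right, hqv, ip, div_eq_inv_mul]
  rw [app_refl, h1, co_sub, co_smul, co_sub, co_smul, h.co_b, h.co_b]
  rcases eq_or_ne l i with rfl | hli
  · rw [if_pos rfl, if_pos rfl, if_neg hij.symm]; ring
  rcases eq_or_ne l j with rfl | hlj
  · rw [if_neg hli, if_pos rfl, if_neg hli.symm, if_pos rfl]
    linear_combination (-co q b c l x) * he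
  · rw [if_neg hli, if_neg hlj, if_neg hli.symm, if_neg hlj.symm]; ring

variable {X : Subgroup (O q)} (hX : HasGens b X)
include hX

theorem signed_pair_mem {i j a : Fin 6} (hij : i ≠ j) (hja : j ≠ a) {e d : F} (he : e * e = 1) (hd : d * d = 1) :
    refl q (b i - e • b j) * refl q (b j - d • b a) ∈ X := by
  have hplus : ∀ k l : Fin 6, k ≠ l → refl q (b k + b l) = h.sgn {k, l} * refl q (b k - b l) ∧
      refl q (b k + b l) = refl q (b k - b l) * h.sgn {k, l} := by
    intro k l hkl
    have hco : ∀ x o, co q b c o (app (refl q (b k + b l)) x) =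
        if o = k then -co q b c l x else if o = l then -co q b c k x else co q b c o x := by
      intro x o
      rw [show b k + b l = b k - (-1 : F) • b l by simp, co_refl_diff h hkl (by ring)]
      simp
    constructor <;> refine ext_app fun x => h.ext_co fun o => ?_ <;>
      simp only [hco, app_mul, h.co_sgn, h.co_swap hkl, Finset.mem_insert, Finset.mem_singleton] <;>
      rcases eq_or_ne o k with rfl | hok <;> rcases eq_or_ne o l with rfl | hol <;>
      simp_all [Equiv.swap_apply_of_ne_of_ne]
  have hp := hX.perms i j j a hij hja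
  have hs1 : h.sgn {i, j} ∈ X := h.sgn_mem hX _ (by rw [Finset.card_pair hij]; decide)
  have hs2 : h.sgn {j, a} ∈ X := h.sgn_mem hX _ (by rw [Finset.card_pair hja]; decide)
  rcases mul_self_eq_one_iff.1 he with rfl | rfl <;> rcases mul_self_eq_one_iff.1 hd with rfl | rfl <;>
    simp only [one_smul, neg_smul, sub_neg_eq_add]
  · exact hp
  · rw [(hplus j a hja).2, ← mul_assoc]; exact X.mul_mem hp hs2
  · rw [(hplus i j hij).1, mul_assoc]; exact X.mul_mem hs1 hp
  · rw [(hplus i j hij).1, (hplus j a hja).2, mul_assoc, ← mul_assoc (refl q (b i - b j))]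
    exact X.mul_mem hs1 (X.mul_mem hp hs2)

variable (H1 : ∀ g ∈ X, ∀ a, (app g (b a) = b a ∨ app g (b a) = -b a) → Mono b g)
include H1

theorem mono_of_line {x : O q} (hx : x ∈ X) {o p : Fin 6} (he : app x (b o) = b p ∨ app x (b o) = -b p) :
    Mono b x := by
  obtain ⟨o', ho'⟩ := exists_ne o
  obtain ⟨p', hp'⟩ := exists_ne p
  obtain ⟨m, hm, hmono, hmb, -⟩ := h.exists_move₂ hX (by norm_num) hp'.symm ho'.symm
  have h1 : Mono b (m * x) := H1 _ (X.mul_mem hm hx) o (by rcases he with e | e <;> simp [app_mul, e, hmb])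
  have := mono_mul (h.mono_inv hmono) h1
  rwa [inv_mul_cancel_left] at this

omit H1 in
/-- A quarter turn in two frame planes. -/
theorem exists_turn {i j k l : Fin 6} (hij : i ≠ j) (hkl : k ≠ l) (hik : i ≠ k) (hil : i ≠ l) (hjk : j ≠ k)
    (hjl : j ≠ l) : ∃ μ ∈ X, app μ (b i) = b j ∧ app μ (b j) = -b i ∧ app μ (b k) = b l ∧ app μ (b l) = -b k ∧
      ∀ o, o ≠ i → o ≠ j → o ≠ k → o ≠ l → app μ (b o) = b o := by
  refine ⟨h.sgn {i, k} * h.perm (Equiv.swap i j * Equiv.swap k l), X.mul_mem
    (h.sgn_mem hX _ (by rw [Finset.card_pair hik]; decide))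
    (h.perm_mem hX (by rw [map_mul, Equiv.Perm.sign_swap hij, Equiv.Perm.sign_swap hkl]; simp)), ?_, ?_, ?_, ?_,
    fun o h1 h2 h3 h4 => ?_⟩
  all_goals rw [app_mul, h.perm_b, Equiv.Perm.mul_apply]
  · rw [Equiv.swap_apply_of_ne_of_ne hik hil, Equiv.swap_apply_left, h.sgn_b,
      if_neg (by simp [hij.symm, hjk])]
  · rw [Equiv.swap_apply_of_ne_of_ne hjk hjl, Equiv.swap_apply_right, h.sgn_b, if_pos (by simp)]
  · rw [Equiv.swap_apply_left, Equiv.swap_apply_of_ne_of_ne hil.symm hjl.symm, h.sgn_b,
      if_neg (by simp [hil.symm, hkl.symm])]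
  · rw [Equiv.swap_apply_right, Equiv.swap_apply_of_ne_of_ne hik.symm hjk.symm, h.sgn_b, if_pos (by simp)]
  · rw [Equiv.swap_apply_of_ne_of_ne h3 h4, Equiv.swap_apply_of_ne_of_ne h1 h2, h.sgn_b,
      if_neg (by simp [h1, h3])]

/-- An element commuting with the sign change on a pair maps any two further lines into a coordinate plane. -/
theorem conj_quad {i j k l : Fin 6} (hij : i ≠ j) (hkl : k ≠ l) (hik : i ≠ k) (hil : i ≠ l) (hjk : j ≠ k)
    (hjl : j ≠ l) {x : O q} (hx : x ∈ X) (hc : Commute x (h.sgn {i, j})) :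
    ∃ L : Finset (Fin 6), x * h.sgn {i, j, k, l} * x⁻¹ = h.sgn L := by
  classical
  obtain ⟨μ, hμ, mi, mj, mk, ml, mo⟩ := exists_turn h hX hij hkl hik hil hjk hjl
  have hμ2 : μ * μ = h.sgn {i, j, k, l} := by
    refine ext_app fun v => ?_
    conv_lhs => rw [← h.expand v]
    conv_rhs => rw [← h.expand v]
    simp only [map_sum, map_smul]
    refine Finset.sum_congr rfl fun o _ => ?_
    rw [app_mul, h.sgn_b]
    congr 1
    by_cases hi : o = i
    · subst hi; rw [mi, mj, if_pos (by simp)]
    by_cases hj : o = j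
    · subst hj; rw [mj, map_neg, mi, if_pos (by simp)]
    by_cases hk : o = k
    · subst hk; rw [mk, ml, if_pos (by simp)]
    by_cases hl : o = l
    · subst hl; rw [ml, map_neg, mk, if_pos (by simp)]
    rw [mo o hi hj hk hl, mo o hi hj hk hl, if_neg (by simp [hi, hj, hk, hl])]
  set y := x * μ * x⁻¹ with hy
  have hyy : y * y = x * h.sgn {i, j, k, l} * x⁻¹ := by rw [hy, ← hμ2]; group
  have hμc : ∀ v, app μ v = co q b c i v • b j - co q b c j v • b i + co q b c k v • b l - co q b c l v • b k +
      ∑ o ∈ ({i, j, k, l} : Finset (Fin 6))ᶜ, co q b c o v • b o := by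
    intro v
    conv_lhs => rw [← h.expand v]
    rw [map_sum, ← Finset.sum_add_sum_compl ({i, j, k, l} : Finset (Fin 6))]
    congr 1
    · rw [Finset.sum_insert (by simp [hij, hik, hil]), Finset.sum_insert (by simp [hjk, hjl]),
        Finset.sum_pair hkl]
      simp only [map_smul, mi, mj, mk, ml, smul_neg]
      abel
    · refine Finset.sum_congr rfl fun o ho => ?_
      simp only [Finset.mem_compl, Finset.mem_insert, Finset.mem_singleton, not_or] at ho
      rw [map_smul, mo o ho.1 ho.2.1 ho.2.2.1 ho.2.2.2]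
  -- the plane part
  set w := app x⁻¹ (b i) with hw
  have hwz : ∀ o, o ∉ ({i, j} : Finset (Fin 6)) → co q b c o w = 0 := fun o ho =>
    co_comm h hc.inv_left (fun hh => ho (hh.1 (by simp)))
  have hμw : app μ w = co q b c i w • b j - co q b c j w • b i := by
    rw [hμc, hwz k (by simp [hik.symm, hjk.symm]), hwz l (by simp [hil.symm, hjl.symm]),
      Finset.sum_eq_zero fun o ho => by
        simp only [Finset.mem_compl, Finset.mem_insert, Finset.mem_singleton, not_or] at ho
        rw [hwz o (by simp [ho.1, ho.2.1]), zero_smul]]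
    simp
  have hyi : app y (b i) = co q b c i w • app x (b j) - co q b c j w • app x (b i) := by
    rw [hy, app_mul, app_mul, ← hw, hμw, map_sub, map_smul, map_smul]
  have hperp : co q b c i (app y (b i)) = 0 := by
    change ip q c (app y (b i)) (b i) = 0
    rw [hy, app_mul, app_mul, ← hw, show b i = app x w by rw [hw, app_app_inv], ip_app, hμw, ip_sub_left,
      ip_smul_left, ip_smul_left, ip_comm (b i) w, ip_comm (b j) w]
    change co q b c i w * co q b c j w - co q b c j w * co q b c i w = 0
    ring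
  have hPimg : ∀ o, o ∉ ({i, j} : Finset (Fin 6)) → co q b c o (app x (b i)) = 0 ∧ co q b c o (app x (b j)) = 0 :=
    fun o ho => ⟨co_comm h hc (fun hh => ho (hh.1 (by simp))), co_comm h hc (fun hh => ho (hh.1 (by simp)))⟩
  have hyline : app y (b i) = b j ∨ app y (b i) = -b j := unit_line h (by rw [Q_app, h.val]) fun o ho => by
    by_cases hoi : o = i
    · rw [hoi]; exact hperp
    · obtain ⟨e1, e2⟩ := hPimg o (by simp [hoi, ho])
      rw [hyi, co_sub, co_smul, co_smul, e1, e2]; ring
  have hyX : y ∈ X := X.mul_mem (X.mul_mem hx hμ) (X.inv_mem hx)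
  have hym : Mono b y := mono_of_line h hX H1 hyX hyline
  choose σ hσ using hym
  -- the fixed vectors
  obtain ⟨m, hm, m', hm', hmm⟩ := Finset.one_lt_card.1 (show 1 < ({i, j, k, l} : Finset (Fin 6))ᶜ.card by
    rw [Finset.card_compl, Fintype.card_fin]
    have : ({i, j, k, l} : Finset (Fin 6)).card ≤ 4 := Finset.card_le_four
    omega)
  simp only [Finset.mem_compl, Finset.mem_insert, Finset.mem_singleton, not_or] at hm hm'
  have hfix : ∀ r, r ≠ i → r ≠ j → r ≠ k → r ≠ l → app y (app x (b r)) = app x (b r) := fun r h1 h2 h3 h4 => by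
    rw [hy, app_mul, app_mul, app_inv_app, mo r h1 h2 h3 h4]
  have hsgn : ∀ (t : O q) (τ : Fin 6 → Fin 6), (∀ o, app t (b o) = b (τ o) ∨ app t (b o) = -b (τ o)) →
      ∀ v, app t v = v → ∀ o, co q b c o v = 0 → co q b c (τ o) v = 0 := by
    intro t τ ht v hv o ho
    have e : co q b c o v = ip q c (app t v) (app t (b o)) := by rw [ip_app]; rfl
    rw [hv, ho] at e
    rcases ht o with e1 | e1 <;> rw [e1] at e
    · exact e.symm
    · rw [ip_neg_right] at e; exact neg_eq_zero.1 e.symm
  have hσi : σ i = j := by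
    rcases hσ i with e | e <;> rcases hyline with e' | e' <;> rw [e'] at e
    · exact (h.line_inj (Or.inl e)).symm
    · exact (h.line_inj (i := j) (Or.inr (neg_eq_iff_eq_neg.1 e))).symm
    · exact (h.line_inj (Or.inr e)).symm
    · exact (h.line_inj (Or.inl (neg_injective e))).symm
  have hσinj : Function.Injective σ := by
    intro a d e
    refine h.line_inj ?_
    have h1 : app y (b a) = app y (b d) ∨ app y (b a) = app y (-b d) := by
      rcases hσ a with e1 | e1 <;> rcases hσ d with e2 | e2 <;> simp [e1, e2, e]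
    rcases h1 with e1 | e1 <;> have := congrArg (app y⁻¹) e1 <;> rw [app_inv_app, app_inv_app] at this
    · exact Or.inl this
    · exact Or.inr this
  have hy4 : y * y * (y * y) = 1 := by
    rw [hyy, show x * h.sgn {i, j, k, l} * x⁻¹ * (x * h.sgn {i, j, k, l} * x⁻¹) =
      x * (h.sgn {i, j, k, l} * h.sgn {i, j, k, l}) * x⁻¹ by group, sq_one h, mul_one, mul_inv_cancel]
  have hiter : ∀ o, app (y * y) (b o) = b (σ (σ o)) ∨ app (y * y) (b o) = -b (σ (σ o)) := by
    intro o
    rw [app_mul]
    rcases hσ o with e | e <;> rcases hσ (σ o) with e' | e' <;> simp [e, e']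
  have hσ4 : ∀ o, σ (σ (σ (σ o))) = o := by
    intro o
    have e := congrArg (fun t => app t (b o)) hy4
    simp only [app_mul _ (y * y), app_one] at e
    refine (h.line_inj ?_).symm
    rcases hiter o with e1 | e1 <;> rw [e1] at e <;> (try simp only [map_neg] at e) <;>
      rcases hiter (σ (σ o)) with e2 | e2 <;> rw [e2] at e <;> (try simp only [neg_neg] at e)
    · exact Or.inl e.symm
    · exact Or.inr e.symm
    · exact Or.inr e.symm
    · exact Or.inl e.symm
  have hσj : σ j = i := by
    -- the plane is invariant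
    obtain ⟨r, hr⟩ := (Finite.injective_iff_surjective.1 hσinj) i
    have hyj : ∀ o, o ∉ ({i, j} : Finset (Fin 6)) → co q b c o (app y (b j)) = 0 := by
      intro o ho
      have hz : ∀ o, o ∉ ({i, j} : Finset (Fin 6)) → co q b c o (app x⁻¹ (b j)) = 0 := fun o ho =>
        co_comm h hc.inv_left (fun hh => ho (hh.1 (by simp)))
      have e : app μ (app x⁻¹ (b j)) =
          co q b c i (app x⁻¹ (b j)) • b j - co q b c j (app x⁻¹ (b j)) • b i := by
        rw [hμc, hz k (by simp [hik.symm, hjk.symm]), hz l (by simp [hil.symm, hjl.symm]),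
          Finset.sum_eq_zero fun o' ho' => by
            simp only [Finset.mem_compl, Finset.mem_insert, Finset.mem_singleton, not_or] at ho'
            rw [hz o' (by simp [ho'.1, ho'.2.1]), zero_smul]]
        simp
      obtain ⟨e1, e2⟩ := hPimg o ho
      rw [hy, app_mul, app_mul, e, map_sub, map_smul, map_smul, co_sub, co_smul, co_smul, e1, e2]
      ring
    have hin : σ j ∈ ({i, j} : Finset (Fin 6)) := by
      by_contra hn
      have := hyj _ hn
      rcases hσ j with e | e <;> rw [e] at this <;> simp [co_neg, h.co_b_self] at this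
    simp only [Finset.mem_insert, Finset.mem_singleton] at hin
    exact hin.resolve_right fun e => hij (hσinj (hσi.trans e.symm))
  have hσ2 : ∀ o, σ (σ o) = o := by
    intro o
    by_contra hne
    have hoi : o ≠ i := fun e => hne (by rw [e, hσi, hσj])
    have hoj : o ≠ j := fun e => hne (by rw [e, hσj, hσi])
    set r₁ := σ o with hr₁
    set r₂ := σ r₁ with hr₂
    set r₃ := σ r₂ with hr₃
    have h4 : σ r₃ = o := hσ4 o
    have n01 : o ≠ r₁ := fun e => hne (by rw [hr₂, ← e]; exact e.symm)
    have n02 : o ≠ r₂ := fun e => hne e.symm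
    have n12 : r₁ ≠ r₂ := fun e => n01 (hσinj (e.trans hr₂))
    have n03 : o ≠ r₃ := fun e => n01 (((congrArg σ e).trans h4).symm.trans hr₁.symm)
    have n13 : r₁ ≠ r₃ := fun e => n02 (hσinj (e.trans hr₃))
    have n23 : r₂ ≠ r₃ := fun e => n12 (hσinj (e.trans hr₃))
    have hQ : ∀ r, r ≠ i → r ≠ j → σ r ≠ i ∧ σ r ≠ j := fun r h1 h2 =>
      ⟨fun e => h2 (hσinj (e.trans hσj.symm)), fun e => h1 (hσinj (e.trans hσi.symm))⟩
    have q1 := hQ o hoi hoj
    have q2 := hQ r₁ q1.1 q1.2
    have q3 := hQ r₂ q2.1 q2.2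
    have hall : ∀ a, a ∈ ({i, j, o, r₁, r₂, r₃} : Finset (Fin 6)) := by
      intro a
      rw [Finset.eq_univ_of_card ({i, j, o, r₁, r₂, r₃} : Finset (Fin 6)) (by
        have m1 := q1.1.symm; have m2 := q1.2.symm; have m3 := q2.1.symm; have m4 := q2.2.symm
        have m5 := q3.1.symm; have m6 := q3.2.symm; have m7 := hoi.symm; have m8 := hoj.symm
        rw [Finset.card_insert_of_notMem (by simp [hij, m1, m3, m5, m7]; exact ⟨m1, m3, m5⟩),
          Finset.card_insert_of_notMem (by simp [m2, m4, m6, m8]; exact ⟨m2, m4, m6⟩),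
          Finset.card_insert_of_notMem (by simp [n01, n02, n03]),
          Finset.card_insert_of_notMem (by simp [n12, n13]), Finset.card_pair n23, Fintype.card_fin])]
      exact Finset.mem_univ a
    set A := co q b c o (app x (b m))
    set B := co q b c o (app x (b m'))
    have hzero : ∀ v, app y v = v → co q b c o v = 0 → co q b c i v = 0 → co q b c j v = 0 → v = 0 := by
      intro v hv h0 hvi hvj
      have e1 := hsgn y σ hσ v hv o h0
      have e2 := hsgn y σ hσ v hv _ e1
      have e3 := hsgn y σ hσ v hv _ e2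
      refine h.ext_co fun a => ?_
      have := hall a
      simp only [Finset.mem_insert, Finset.mem_singleton] at this
      rw [co_zero]
      rcases this with rfl | rfl | rfl | rfl | rfl | rfl <;> assumption
    have hPz : ∀ r, r ≠ i → r ≠ j → co q b c i (app x (b r)) = 0 ∧ co q b c j (app x (b r)) = 0 := fun r h1 h2 =>
      ⟨co_comm h hc (by simp [h1, h2]), co_comm h hc (by simp [h1, h2])⟩
    obtain ⟨a1, a2⟩ := hPz m hm.1 hm.2.1
    obtain ⟨d1, d2⟩ := hPz m' hm'.1 hm'.2.1
    have hv0 : B • app x (b m) - A • app x (b m') = 0 := hzero _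
      (by rw [map_sub, map_smul, map_smul, hfix m hm.1 hm.2.1 hm.2.2.1 hm.2.2.2,
        hfix m' hm'.1 hm'.2.1 hm'.2.2.1 hm'.2.2.2])
      (by rw [co_sub, co_smul, co_smul]; ring)
      (by rw [co_sub, co_smul, co_smul, a1, d1]; ring) (by rw [co_sub, co_smul, co_smul, a2, d2]; ring)
    have hA : A = 0 := by
      have := congrArg (fun v => co q b c m' (app x⁻¹ v)) hv0
      simp only [map_sub, map_smul, app_inv_app, map_zero, co_sub, co_smul, h.co_b_self, h.co_b_ne hmm,
        co_zero] at this
      linear_combination -this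
    have := congrArg (app x⁻¹) (hzero _ (hfix m hm.1 hm.2.1 hm.2.2.1 hm.2.2.2) hA a1 a2)
    rw [app_inv_app, map_zero] at this
    have h1 := h.co_b_self m
    rw [this, co_zero] at h1
    exact zero_ne_one h1
  -- the square is diagonal
  refine ⟨Finset.univ.filter fun o => co q b c o (app (y * y) (b o)) = -1, ?_⟩
  rw [← hyy]
  refine ext_app fun v => ?_
  conv_lhs => rw [← h.expand v]
  conv_rhs => rw [← h.expand v]
  simp only [map_sum, map_smul]
  refine Finset.sum_congr rfl fun o _ => ?_
  congr 1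
  have hne : (1 : F) ≠ -1 := fun e => h.two (by linear_combination e)
  have := hiter o
  rw [hσ2] at this
  rw [app_mul] at this
  rcases this with e | e <;> rw [h.sgn_b] <;> simp [app_mul, e, co_neg, h.co_b_self, hne]

/-- An element commuting with the sign change on a pair is a signed permutation. -/
theorem comm_pair {i j : Fin 6} (hij : i ≠ j) {x : O q} (hx : x ∈ X) (hc : Commute x (h.sgn {i, j})) :
    Mono b x := by
  classical
  obtain ⟨k, hk, l, hl, m, hm, hkl, hkm, hlm⟩ := Finset.two_lt_card.1 (show 2 < ({i, j} : Finset (Fin 6))ᶜ.card by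
    rw [Finset.card_compl, Fintype.card_fin, Finset.card_pair hij]; norm_num)
  simp only [Finset.mem_compl, Finset.mem_insert, Finset.mem_singleton, not_or] at hk hl hm
  obtain ⟨L₁, hL₁⟩ := conj_quad h hX H1 hij hkl (Ne.symm hk.1) (Ne.symm hl.1) (Ne.symm hk.2) (Ne.symm hl.2) hx hc
  obtain ⟨L₂, hL₂⟩ := conj_quad h hX H1 hij hkm (Ne.symm hk.1) (Ne.symm hm.1) (Ne.symm hk.2) (Ne.symm hm.2) hx hc
  have hxc : x * h.sgn {i, j} * x⁻¹ = h.sgn {i, j} := by rw [hc.eq, mul_inv_cancel_right]
  have key : ∀ l', l' ≠ i → l' ≠ j → k ≠ l' → ∀ L, x * h.sgn {i, j, k, l'} * x⁻¹ = h.sgn L →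
      x * h.sgn {k, l'} * x⁻¹ = h.sgn (symmDiff {i, j} L) ∧ (symmDiff {i, j} L).card = 2 := by
    intro l' h1 h2 hkl' L hL
    have e : x * h.sgn {k, l'} * x⁻¹ = h.sgn (symmDiff {i, j} L) := by
      rw [← h.sgn_mul]
      conv_rhs => rw [← hxc, ← hL]
      rw [show x * h.sgn {i, j} * x⁻¹ * (x * h.sgn {i, j, k, l'} * x⁻¹) =
        x * (h.sgn {i, j} * h.sgn {i, j, k, l'}) * x⁻¹ by group, h.sgn_mul]
      congr 3
      ext o
      by_cases o1 : o = i <;> by_cases o2 : o = j <;> simp_all [Finset.mem_symmDiff, eq_comm]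
    exact ⟨e, by rw [← card_eq_of_conj h e, Finset.card_pair hkl']⟩
  obtain ⟨e₁, c₁⟩ := key l hl.1 hl.2 hkl L₁ hL₁
  obtain ⟨e₂, c₂⟩ := key m hm.1 hm.2 hkm L₂ hL₂
  set K₁ := symmDiff {i, j} L₁
  set K₂ := symmDiff {i, j} L₂
  have hne : K₁ ≠ K₂ := fun e => by
    have e3 : h.sgn {k, l} = h.sgn {k, m} := by
      have := e₁.trans ((congrArg h.sgn e).trans e₂.symm)
      exact mul_left_cancel (mul_right_cancel this)
    have := h.sgn_inj e3
    have hmem : l ∈ ({k, m} : Finset (Fin 6)) := this ▸ by simp
    simp [hkl.symm, hlm] at hmem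
  have hsupp : ∀ o, co q b c o (app x (b k)) ≠ 0 → o ∈ K₁ ∧ o ∈ K₂ := by
    intro o ho
    have hin : ∀ (l' : Fin 6) K, x * h.sgn {k, l'} * x⁻¹ = h.sgn K → o ∈ K := by
      intro l' K e
      by_contra hn
      have := congrArg (fun t => co q b c o (app t (app x (b k)))) e
      simp only [app_mul, app_inv_app, h.sgn_b, Finset.mem_insert, true_or, if_true, map_neg, co_neg,
        h.co_sgn, if_neg hn] at this
      exact ho ((mul_eq_zero.1 (show 2 * co q b c o (app x (b k)) = 0 by linear_combination -this)).resolve_left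
        h.two)
    exact ⟨hin l _ e₁, hin m _ e₂⟩
  obtain ⟨p, hp⟩ : ∃ p, co q b c p (app x (b k)) ≠ 0 := by
    by_contra hn
    push Not at hn
    have e := h.sum_sq (x := app x (b k)) (by rw [Q_app, h.val])
    simp [hn] at e
  refine mono_of_line h hX H1 hx (o := k) (p := p) (unit_line h (by rw [Q_app, h.val]) fun o ho => ?_)
  by_contra hn
  have hsub : ({p, o} : Finset (Fin 6)) ⊆ K₁ ∩ K₂ := by
    intro t ht
    simp only [Finset.mem_insert, Finset.mem_singleton] at ht
    rcases ht with rfl | rfl
    · exact Finset.mem_inter.2 (hsupp _ hp)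
    · exact Finset.mem_inter.2 (hsupp _ hn)
  have e1 := Finset.eq_of_subset_of_card_le (hsub.trans Finset.inter_subset_left)
    (by rw [c₁, Finset.card_pair (Ne.symm ho)])
  have e2 := Finset.eq_of_subset_of_card_le (hsub.trans Finset.inter_subset_right)
    (by rw [c₂, Finset.card_pair (Ne.symm ho)])
  exact hne (e1.symm.trans e2)

/-- An element commuting with a sign change on two or four vectors is a signed permutation. -/
theorem comm_good {K : Finset (Fin 6)} (hK : K.card = 2 ∨ K.card = 4) {x : O q} (hx : x ∈ X)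
    (hc : Commute x (h.sgn K)) : Mono b x := by
  classical
  rcases hK with e | e
  · obtain ⟨i, j, hij, rfl⟩ := Finset.card_eq_two.1 e
    exact comm_pair h hX H1 hij hx hc
  · obtain ⟨i, j, hij, hK'⟩ := Finset.card_eq_two.1 (show Kᶜ.card = 2 by
      rw [Finset.card_compl, Fintype.card_fin, e])
    exact comm_pair h hX H1 hij hx (by rw [← hK', h.sgn_compl]; exact (h.commute_univ x).mul_right hc)

end CfsgLib.FrameSix
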