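import Cfsg.Agent.Lib.FrameSix.Conj
import Cfsg.Agent.Lib.Sp4Odd.FrameFiveAll
import Cfsg.Agent.Lib.Orth.Siegel

/-!
Six frame vectors over a prime field: a group with the frame generators and one element which is no signed
permutation has every unit vector as a root.
-/

set_option autoImplicit false
set_option linter.unusedSectionVars false

namespace CfsgLib.FrameSix

open QuadraticMap CfsgLib.Orth CfsgLib.GeomClasses.Frame

variable {ι : Type} [Fintype ι] [DecidableEq ι] {F : Type*} [Field F]
  {q : QuadraticForm F (ι → F)} {b : Fin 6 → ι → F} {c : F}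

variable (q b c) in
/-- The embedding of the coordinates off one frame vector. -/
def emb (a : Fin 6) : (Fin 5 → F) →ₗ[F] (ι → F) := Fintype.linearCombination F fun k => b (a.succAbove k)

variable (q b c) in
/-- The coordinates off one frame vector. -/
def pr (a : Fin 6) : (ι → F) →ₗ[F] (Fin 5 → F) where
  toFun x k := co q b c (a.succAbove k) x
  map_add' x y := funext fun k => co_add _ x y
  map_smul' s x := funext fun k => co_smul _ s x

/-- The form off one frame vector. -/
noncomputable def q5c (c : F) : QuadraticForm F (Fin 5 → F) :=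
  QuadraticMap.weightedSumSquares F fun _ : Fin 5 => c

theorem q5c_apply (c : F) (y : Fin 5 → F) : q5c c y = ∑ k, c * (y k * y k) := by
  simp [q5c, QuadraticMap.weightedSumSquares_apply]

theorem polar_q5c (c : F) (x y : Fin 5 → F) : polar (q5c c) x y = ∑ k, 2 * c * (x k * y k) := by
  simp only [polar, q5c_apply, Pi.add_apply, ← Finset.sum_sub_distrib]
  exact Finset.sum_congr rfl fun k _ => by ring

theorem frame_five {c : F} (h2 : (2 : F) ≠ 0) (hc : c ≠ 0) :
    IsFrame (q5c c) (fun k : Fin 5 => (Pi.single k 1 : Fin 5 → F)) c where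
  nondeg := by
    refine ⟨fun x hx => funext fun k => ?_, fun x hx => funext fun k => ?_⟩
    · have e := hx (Pi.single k 1)
      rw [QuadraticMap.polarBilin_apply_apply, polar_q5c, Finset.sum_eq_single k (fun l _ hl => by simp [hl])
        (fun e' => absurd (Finset.mem_univ k) e'), Pi.single_eq_same, mul_one] at e
      exact (mul_eq_zero.1 e).resolve_left (mul_ne_zero h2 hc)
    · have e := hx (Pi.single k 1)
      rw [QuadraticMap.polarBilin_apply_apply, polar_q5c, Finset.sum_eq_single k (fun l _ hl => by simp [hl])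
        (fun e' => absurd (Finset.mem_univ k) e'), Pi.single_eq_same, one_mul] at e
      exact (mul_eq_zero.1 e).resolve_left (mul_ne_zero h2 hc)
  two := h2
  c_ne := hc
  val k := by simp [q5c_apply, Pi.single_apply]
  orth k l hkl := by
    rw [polar_q5c]
    refine Finset.sum_eq_zero fun o _ => ?_
    rcases eq_or_ne o k with rfl | ho
    · rw [Pi.single_eq_of_ne hkl, mul_zero, mul_zero]
    · rw [Pi.single_eq_of_ne ho, zero_mul, mul_zero]
  card_eq := Fintype.card_fin 5

theorem co_five {c : F} (h2 : (2 : F) ≠ 0) (hc : c ≠ 0) (k : Fin 5) (x : Fin 5 → F) :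
    co (q5c c) (fun k : Fin 5 => (Pi.single k 1 : Fin 5 → F)) c k x = x k := by
  rw [co, ip, polar_q5c]
  simp [Pi.single_apply, mul_div_assoc, h2, hc]

variable (h : IsFrame q b c)
include h

theorem co_emb (a : Fin 6) (y : Fin 5 → F) (k : Fin 5) : co q b c (a.succAbove k) (emb b a y) = y k := by
  rw [emb, Fintype.linearCombination_apply, co_sum, Finset.sum_eq_single k]
  · rw [co_smul, h.co_b_self, mul_one]
  · intro l _ hl
    rw [co_smul, h.co_b_ne fun e => hl (Fin.succAbove_right_injective e), mul_zero]
  · simp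

theorem co_emb_self (a : Fin 6) (y : Fin 5 → F) : co q b c a (emb b a y) = 0 := by
  rw [emb, Fintype.linearCombination_apply, co_sum]
  exact Finset.sum_eq_zero fun l _ => by rw [co_smul, h.co_b_ne (Fin.succAbove_ne a l), mul_zero]

theorem pr_emb (a : Fin 6) (y : Fin 5 → F) : pr q b c a (emb b a y) = y := funext fun k => co_emb h a y k

theorem emb_pr {a : Fin 6} {x : ι → F} (hx : co q b c a x = 0) : emb b a (pr q b c a x) = x :=
  h.ext_co fun i => by
    rcases eq_or_ne i a with rfl | hia
    · rw [co_emb_self h, hx]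
    · obtain ⟨k, rfl⟩ := Fin.exists_succAbove_eq hia
      rw [co_emb h]; rfl

theorem ip_emb (a : Fin 6) (x y : Fin 5 → F) : ip q c (emb b a x) (emb b a y) = ∑ k, x k * y k := by
  rw [h.ip_eq_sum, Fin.sum_univ_succAbove _ a, co_emb_self h, zero_mul, zero_add]
  exact Finset.sum_congr rfl fun k _ => by rw [co_emb h, co_emb h]

theorem q_emb (a : Fin 6) (y : Fin 5 → F) : q (emb b a y) = q5c c y := by
  rw [h.q_eq, ip_emb h, q5c_apply, Finset.mul_sum]

theorem polar_emb (a : Fin 6) (x y : Fin 5 → F) : polar q (emb b a x) (emb b a y) = polar (q5c c) x y := by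
  simp only [polar, ← map_add, q_emb h]

theorem emb_single (a : Fin 6) (k : Fin 5) : emb b a (Pi.single k 1) = b (a.succAbove k) := by
  rw [emb, Fintype.linearCombination_apply_single, one_smul]

variable {X : Subgroup (O q)}

theorem co_stab {a : Fin 6} {g : O q} (hg : g ∈ lineStab X b a) {x : ι → F} (hx : co q b c a x = 0) :
    co q b c a (app g x) = 0 := by
  rcases ((lineStab X b a).inv_mem hg).2 with e | e
  · change ip q c (app g x) (b a) = 0
    rw [← ip_app g⁻¹, app_inv_app, e]; exact hx
  · change ip q c (app g x) (b a) = 0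
    rw [← ip_app g⁻¹, app_inv_app, e, ip_neg_right]; exact neg_eq_zero.2 hx

variable (X) in
/-- The restriction off a fixed frame line. -/
noncomputable def rest (a : Fin 6) : lineStab X b a →* O (q5c c) where
  toFun g := mkO (pr q b c a ∘ₗ app (g : O q) ∘ₗ emb b a) (pr q b c a ∘ₗ app ((g⁻¹ : lineStab X b a) : O q) ∘ₗ emb b a)
    (LinearMap.ext fun y => by
      simp only [LinearMap.comp_apply, LinearMap.id_apply, Subgroup.coe_inv]
      rw [emb_pr h (co_stab h ((lineStab X b a).inv_mem g.2) (co_emb_self h a y)), app_app_inv, pr_emb h])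
    (LinearMap.ext fun y => by
      simp only [LinearMap.comp_apply, LinearMap.id_apply, Subgroup.coe_inv]
      rw [emb_pr h (co_stab h g.2 (co_emb_self h a y)), app_inv_app, pr_emb h])
    (fun y => by
      simp only [LinearMap.comp_apply]
      rw [← q_emb h a, emb_pr h (co_stab h g.2 (co_emb_self h a y)), Q_app, q_emb h])
  map_one' := ext_app fun y => by
    simp only [app_mkO, LinearMap.comp_apply, OneMemClass.coe_one, app_one, pr_emb h]
  map_mul' g g' := ext_app fun y => by
    simp only [app_mkO, app_mul, LinearMap.comp_apply, Subgroup.coe_mul]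
    rw [emb_pr h (co_stab h g'.2 (co_emb_self h a y))]

theorem emb_rest {a : Fin 6} (g : lineStab X b a) (y : Fin 5 → F) :
    emb b a (app (rest h X a g) y) = app (g : O q) (emb b a y) := by
  simp only [rest, MonoidHom.coe_mk, OneHom.coe_mk, app_mkO, LinearMap.comp_apply]
  exact emb_pr h (co_stab h g.2 (co_emb_self h a y))

theorem emb_inj (a : Fin 6) {x y : Fin 5 → F} (e : emb b a x = emb b a y) : x = y := by
  rw [← pr_emb h a x, e, pr_emb h]

theorem refl_emb (a : Fin 6) (u y : Fin 5 → F) :
    app (refl q (emb b a u)) (emb b a y) = emb b a (app (refl (q5c c) u) y) := by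
  rw [app_refl, app_refl, q_emb h, polar_emb h, map_sub, map_smul]

theorem refl_emb_fix (a : Fin 6) (u : Fin 5 → F) : app (refl q (emb b a u)) (b a) = b a := by
  refine app_refl_of_ortho ?_
  have e : ip q c (b a) (emb b a u) = 0 := by rw [ip_comm]; exact co_emb_self h a u
  exact (div_eq_zero_iff.1 e).resolve_right h.two_c

theorem pair_mem_lineStab {a : Fin 6} {u v : Fin 5 → F}
    (hmem : refl q (emb b a u) * refl q (emb b a v) ∈ X) :
    ∃ g : lineStab X b a, rest h X a g = refl (q5c c) u * refl (q5c c) v := by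
  refine ⟨⟨_, hmem, Or.inl (by rw [app_mul, refl_emb_fix h, refl_emb_fix h])⟩, ext_app fun y => emb_inj h a ?_⟩
  rw [emb_rest h, app_mul, refl_emb h, app_mul, refl_emb h]

theorem hasGens_five (hX : HasGens b X) (a : Fin 6) :
    HasGens (fun k : Fin 5 => (Pi.single k 1 : Fin 5 → F)) (rest h X a).range := by
  refine ⟨fun k l hkl => ?_, fun k l m o hkl hmo => ?_⟩ <;> rw [MonoidHom.mem_range] <;> refine pair_mem_lineStab h ?_
  · rw [emb_single h, emb_single h]
    exact hX.signs _ _ fun e => hkl (Fin.succAbove_right_injective e)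
  · rw [map_sub, map_sub, emb_single h, emb_single h, emb_single h, emb_single h]
    exact hX.perms _ _ _ _ (fun e => hkl (Fin.succAbove_right_injective e))
      (fun e => hmo (Fin.succAbove_right_injective e))

theorem not_mono_rest {a : Fin 6} {g : lineStab X b a} (hne : ¬ Mono b (g : O q)) :
    ¬ Mono (fun k : Fin 5 => (Pi.single k 1 : Fin 5 → F)) (rest h X a g) := by
  refine fun hm => hne fun i => ?_
  rcases eq_or_ne i a with rfl | hia
  · exact ⟨i, g.2.2⟩
  obtain ⟨k, rfl⟩ := Fin.exists_succAbove_eq hia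
  obtain ⟨l, hl⟩ := hm k
  refine ⟨a.succAbove l, ?_⟩
  rw [← emb_single h a k, ← emb_rest h, ← emb_single h a l]
  rcases hl with e | e <;> rw [e]
  · exact Or.inl rfl
  · right; rw [map_neg]

variable [Fintype F] (hX : HasGens b X) (hdet : ∀ g ∈ X, detHom q g = 1) (p : ℕ) [Fact p.Prime] [CharP F p]
  (hcard : Nat.card F = p)
include hX hdet hcard

/-- A stabiliser of a frame line which is no monomial group gives the roots off that line. -/
theorem phi_off {a : Fin 6} {g : O q} (hg : g ∈ lineStab X b a) (hne : ¬ Mono b g) {v : ι → F} (hv : q v = c)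
    (ha : co q b c a v = 0) : Phi q b c X v := by
  have h5 := frame_five h.two h.c_ne
  set g₁ : lineStab X b a := ⟨g, hg⟩ with hg₁
  have hu : q5c c (pr q b c a v) = c := by rw [← q_emb h a, emb_pr h ha, hv]
  obtain ⟨-, hphi⟩ := h5.unit_phi (hasGens_five h hX a) p hcard rfl
    (MonoidHom.mem_range.2 ⟨g₁, rfl⟩) (not_mono_rest h hne) _ hu
  obtain ⟨t, ht⟩ := MonoidHom.mem_range.1 (hphi 0)
  refine h.phi_of_one hX hv (a := a.succAbove 0) ?_
  set R := refl q v * refl q (b (a.succAbove 0)) with hR
  have hRy : ∀ y, app R (emb b a y) = app (t : O q) (emb b a y) := fun y => by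
    rw [hR, ← emb_pr h ha, ← emb_single h a 0, app_mul, refl_emb h, refl_emb h, ← emb_rest h, ht, app_mul]
  have hRa : app R (b a) = b a := by
    rw [hR, ← emb_pr h ha, ← emb_single h a 0, app_mul, refl_emb_fix h, refl_emb_fix h]
  have hext : ∀ S T : O q, app S (b a) = app T (b a) → (∀ y, app S (emb b a y) = app T (emb b a y)) → S = T := by
    intro S T e e'
    refine ext_app fun x => ?_
    have hsplit : x = co q b c a x • b a + emb b a (pr q b c a x) := h.ext_co fun i => by
      rcases eq_or_ne i a with rfl | hia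
      · rw [co_add, co_smul, h.co_b_self, co_emb_self h]; ring
      · obtain ⟨k, rfl⟩ := Fin.exists_succAbove_eq hia
        rw [co_add, co_smul, h.co_b_ne hia.symm, co_emb h]
        simp [pr]
    conv_lhs => rw [hsplit]
    conv_rhs => rw [hsplit]
    simp only [map_add, map_smul, e, e']
  have hqb : ∀ i, q (b i) ≠ 0 := fun i => by rw [h.val]; exact h.c_ne
  rcases t.2.2 with e | e
  · rw [hext R t (hRa.trans e.symm) hRy]; exact t.2.1
  · exfalso
    have e1 : R * refl q (b a) = t := hext _ _ (by rw [app_mul, app_refl_self (hqb a), map_neg, hRa, e]) fun y => by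
      rw [app_mul, app_refl_of_ortho ?_, hRy]
      exact (div_eq_zero_iff.1 (co_emb_self h a y)).resolve_right h.two_c
    have e2 := hdet _ t.2.1
    rw [← e1, hR, map_mul, map_mul, detHom_refl (by rw [hv]; exact h.c_ne), detHom_refl (hqb _),
      detHom_refl (hqb _)] at e2
    exact h.two (by
      have := congrArg Units.val e2
      simp at this
      linear_combination -this)

theorem phi_zero {g : O q} (hg : g ∈ X) (hne : ¬ Mono b g) {v : ι → F} (hv : q v = c) {d : Fin 6}
    (hd : co q b c d v = 0) : Phi q b c X v := by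
  obtain ⟨a, x, hx, hxne⟩ : ∃ a x, x ∈ lineStab X b a ∧ ¬ Mono b x := by
    by_contra hn
    push Not at hn
    exact hne (all_mono h hX (fun x hx a hxa => hn a x ⟨hx, hxa⟩) g hg)
  obtain ⟨d', hd'⟩ := exists_ne d
  obtain ⟨a', ha'⟩ := exists_ne a
  obtain ⟨m, hm, hmono, hmd, -⟩ := h.exists_move₂ hX (by norm_num) hd'.symm ha'.symm
  have hma : co q b c a (app m v) = 0 := by
    change ip q c (app m v) (b a) = 0
    rw [← hmd, ip_app]; exact hd
  have h1 := phi_off h hX hdet p hcard hx hxne (by rw [Q_app, hv]) hma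
  have h2 := h.phi_move hX h1 (X.inv_mem hm) (a := a) (a' := d) (Or.inl (by rw [← hmd, app_inv_app]))
  rwa [app_inv_app] at h2

omit hX hdet hcard in
/-- A point of the quadric in the hyperplane section. -/
theorem exists_section {x y z : F} (hxy : x ^ 2 + y ^ 2 ≠ 0) (hM : x ^ 2 + y ^ 2 + z ^ 2 ≠ 0) (N L : F) :
    ∃ r s t : F, r ^ 2 + s ^ 2 + t ^ 2 = N ∧ x * r + y * s + z * t = L := by
  set A := x ^ 2 + y ^ 2 with hA
  set M := x ^ 2 + y ^ 2 + z ^ 2 with hMdef
  obtain ⟨α, β, e⟩ := CfsgLib.Orth.exists_binary h.two hxy (mul_ne_zero hxy hM) (N - L ^ 2 / M)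
  obtain ⟨l, rfl⟩ : ∃ l, L = l * M := ⟨L / M, (div_mul_cancel₀ _ hM).symm⟩
  refine ⟨l * x - α * y - β * x * z, l * y + α * x - β * y * z, l * z + β * A, ?_, ?_⟩
  · rw [mul_pow, sq M, ← mul_assoc, mul_div_cancel_right₀ _ hM] at e
    simp only [hA, hMdef] at e ⊢
    linear_combination e
  · simp only [hA, hMdef]; ring

omit hX hdet hcard in
theorem exists_triple (w : Fin 6 → F) (hw : ∑ i, w i = 1) : ∃ x y z d f : Fin 6, x ≠ y ∧ x ≠ z ∧ x ≠ d ∧ x ≠ f ∧
    y ≠ z ∧ y ≠ d ∧ y ≠ f ∧ z ≠ d ∧ z ≠ f ∧ d ≠ f ∧ w x + w y ≠ 0 ∧ w x + w y + w z ≠ 0 := by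
  have key : ∀ i j k : Fin 6, w i + w j + w k ≠ 0 → w i + w j ≠ 0 ∨ w i + w k ≠ 0 ∨ w j + w k ≠ 0 := by
    intro i j k hne
    by_contra hn
    push Not at hn
    obtain ⟨e1, e2, e3⟩ := hn
    exact mul_ne_zero h.two hne (by linear_combination e1 + e2 + e3)
  rw [Fin.sum_univ_six] at hw
  by_cases h0 : w 0 + w 1 + w 2 = 0
  · have h1 : w 3 + w 4 + w 5 ≠ 0 := fun e => one_ne_zero (α := F) (by linear_combination h0 + e - hw)
    rcases key 3 4 5 h1 with e | e | e
    · exact ⟨3, 4, 5, 0, 1, by decide, by decide, by decide, by decide, by decide, by decide, by decide, by decide,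
        by decide, by decide, e, h1⟩
    · exact ⟨3, 5, 4, 0, 1, by decide, by decide, by decide, by decide, by decide, by decide, by decide, by decide,
        by decide, by decide, e, by intro e'; exact h1 (by linear_combination e')⟩
    · exact ⟨4, 5, 3, 0, 1, by decide, by decide, by decide, by decide, by decide, by decide, by decide, by decide,
        by decide, by decide, e, by intro e'; exact h1 (by linear_combination e')⟩
  · rcases key 0 1 2 h0 with e | e | e
    · exact ⟨0, 1, 2, 3, 4, by decide, by decide, by decide, by decide, by decide, by decide, by decide, by decide,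
        by decide, by decide, e, h0⟩
    · exact ⟨0, 2, 1, 3, 4, by decide, by decide, by decide, by decide, by decide, by decide, by decide, by decide,
        by decide, by decide, e, by intro e'; exact h0 (by linear_combination e')⟩
    · exact ⟨1, 2, 0, 3, 4, by decide, by decide, by decide, by decide, by decide, by decide, by decide, by decide,
        by decide, by decide, e, by intro e'; exact h0 (by linear_combination e')⟩

/-- Every unit vector is a root as soon as the group has an element which is no signed permutation. -/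
theorem unit_phi {g : O q} (hg : g ∈ X) (hne : ¬ Mono b g) : ∀ v, q v = c → Phi q b c X v := by
  classical
  intro v hv
  obtain ⟨x, y, z, d, f, hxy, hxz, hxd, hxf, hyz, hyd, hyf, hzd, hzf, hdf, e1, e2⟩ :=
    exists_triple h (fun i => co q b c i v ^ 2) (h.sum_sq hv)
  set vx := co q b c x v
  set vy := co q b c y v
  set vz := co q b c z v
  set vd := co q b c d v
  set N := vx ^ 2 + vy ^ 2 + vz ^ 2 + vd ^ 2
  obtain ⟨r, s, t, er, es⟩ := exists_section h e1 e2 N (N - (1 / 2 : F))
  set w : ι → F := (vx - r) • b x + (vy - s) • b y + (vz - t) • b z + vd • b d with hwdef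
  have hwco : ∀ i, co q b c i w = (if x = i then vx - r else 0) + (if y = i then vy - s else 0) +
      (if z = i then vz - t else 0) + if d = i then vd else 0 := fun i => by
    rw [hwdef, co_add, co_add, co_add, co_smul, co_smul, co_smul, co_smul, h.co_b, h.co_b, h.co_b, h.co_b]
    split_ifs <;> ring
  have hip : ∀ u, ip q c w u = (vx - r) * co q b c x u + (vy - s) * co q b c y u + (vz - t) * co q b c z u +
      vd * co q b c d u := fun u => by
    simp only [hwdef, ip_add_left, ip_smul_left, ip_comm (b _) u]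
    rfl
  have hww : ip q c w w = 1 := by
    rw [hip, hwco, hwco, hwco, hwco]
    simp [hxy, hxz, hxd, hxy.symm, hxz.symm, hxd.symm, hyz, hyd, hyz.symm, hyd.symm, hzd, hzd.symm]
    have h2 : (2 : F) * (1 / 2) = 1 := by field_simp [h.two]
    linear_combination er - 2 * es + h2
  have hwv : 2 * ip q c v w = 1 := by
    rw [ip_comm, hip]
    have h2 : (2 : F) * (1 / 2) = 1 := by field_simp [h.two]
    linear_combination -2 * es + h2
  have hwc : q w = c := (h.unit_iff w).2 hww
  have hwphi : Phi q b c X w := phi_zero h hX hdet p hcard hg hne hwc (d := f)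
    (by rw [hwco, if_neg hxf, if_neg hyf, if_neg hzf, if_neg hdf]; ring)
  have hv' : Phi q b c X (app (refl q w) v) := phi_zero h hX hdet p hcard hg hne (by rw [Q_app, hv]) (d := d) (by
    rw [h.co_refl_unit hwc, hwv, hwco, if_neg hxd, if_neg hyd, if_neg hzd, if_pos rfl]
    ring)
  have := h.phi_refl hwphi hv'
  rwa [← app_mul, refl_mul_self, app_one] at this

end CfsgLib.FrameSix
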