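import Cfsg.Agent.Lib.FrameSix.Five
import Cfsg.Agent.Lib.POmega.Wedge

/-!
Four by four matrices of determinant one acting on six orthonormal coordinates through the exterior square.
-/

set_option autoImplicit false
set_option linter.unusedSectionVars false

namespace CfsgLib.FrameSix

open Matrix CfsgLib.Orth CfsgLib.POmega CfsgLib.GeomClasses.Frame

open scoped MatrixGroups

variable {F : Type*} [Field F]

/-- The sum of six squares. -/
noncomputable def q6 : QuadraticForm F (Fin 6 → F) := QuadraticMap.weightedSumSquares F fun _ : Fin 6 => (1 : F)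

theorem q6_apply (y : Fin 6 → F) : q6 y = ∑ k, y k * y k := by
  simp [q6, QuadraticMap.weightedSumSquares_apply]

theorem polar_q6 (x y : Fin 6 → F) : QuadraticMap.polar q6 x y = 2 * (x ⬝ᵥ y) := by
  simp only [QuadraticMap.polar, q6_apply, Pi.add_apply, dotProduct, Finset.mul_sum, ← Finset.sum_sub_distrib]
  exact Finset.sum_congr rfl fun k _ => by ring

local notation "bs" => (fun k : Fin 6 => (Pi.single k 1 : Fin 6 → F))

theorem frame_six (h2 : (2 : F) ≠ 0) : IsFrame (q6 (F := F)) bs 1 where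
  nondeg := by
    refine ⟨fun x hx => funext fun k => ?_, fun x hx => funext fun k => ?_⟩ <;>
      have e := hx (Pi.single k 1) <;> rw [QuadraticMap.polarBilin_apply_apply, polar_q6] at e <;>
      simpa [h2] using e
  two := h2
  c_ne := one_ne_zero
  val k := by simp [q6_apply, Pi.single_apply]
  orth k l hkl := by simp [polar_q6, hkl, hkl.symm]
  card_eq := Fintype.card_fin 6

theorem co_six (h2 : (2 : F) ≠ 0) (k : Fin 6) (x : Fin 6 → F) : co (q6 (F := F)) bs 1 k x = x k := by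
  rw [co, ip, polar_q6]
  simp [h2]

variable (c : F)

/-- The frame in bivector coordinates. -/
def T : Matrix (Fin 6) (Fin 6) F :=
  !![1, c, 0, 0, 0, 0; 0, 0, 1, c, 0, 0; 0, 0, 0, 0, 1, c; 0, 0, 0, 0, 1, -c; 0, 0, -1, c, 0, 0; 1, -c, 0, 0, 0, 0]

/-- Coordinates in the frame. -/
def T' : Matrix (Fin 6) (Fin 6) F :=
  (2 : F)⁻¹ • !![1, 0, 0, 0, 0, 1; -c, 0, 0, 0, 0, c; 0, 1, 0, 0, -1, 0; 0, -c, 0, 0, -c, 0; 0, 0, 1, 1, 0, 0; 0, 0, -c, c, 0, 0]

variable {c} (hc : c * c = -1) (h2 : (2 : F) ≠ 0)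
include hc h2

theorem TT' : T c * T' c = 1 := by
  ext r s
  fin_cases r <;> fin_cases s <;>
    simp [T, T', Matrix.mul_apply, Fin.sum_univ_six, Matrix.one_apply, Matrix.vecHead, Matrix.vecTail] <;>
    field_simp <;> first | (linear_combination -hc) | (linear_combination hc) | ring

theorem T'T : T' c * T c = 1 := mul_eq_one_comm.1 (TT' hc h2)

omit h2 in
theorem pf_T (x : Fin 6 → F) : pf (T c *ᵥ x) = q6 x := by
  rw [q6_apply, Fin.sum_univ_six]
  simp [pf, T, Matrix.mulVec, dotProduct, Fin.sum_univ_six]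
  linear_combination -(x 1 * x 1 + x 3 * x 3 + x 5 * x 5) * hc

/-- The action in frame coordinates. -/
def act (c : F) (M : Matrix (Fin 4) (Fin 4) F) : Matrix (Fin 6) (Fin 6) F := T' c * wedge M * T c

theorem act_mul (M N : Matrix (Fin 4) (Fin 4) F) : act c (M * N) = act c M * act c N := by
  simp only [act, wedge_mul, Matrix.mul_assoc]
  rw [← Matrix.mul_assoc (T c), TT' hc h2, Matrix.one_mul]

theorem act_one : act c (1 : Matrix (Fin 4) (Fin 4) F) = 1 := by
  rw [act, wedge_one, Matrix.mul_one, T'T hc h2]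

theorem T_act (M : Matrix (Fin 4) (Fin 4) F) (x : Fin 6 → F) :
    T c *ᵥ (act c M *ᵥ x) = wedge M *ᵥ (T c *ᵥ x) := by
  rw [act, Matrix.mulVec_mulVec, Matrix.mul_assoc, ← Matrix.mul_assoc (T c), TT' hc h2, Matrix.one_mul,
    Matrix.mulVec_mulVec]

theorem q6_act {M : Matrix (Fin 4) (Fin 4) F} (hM : M.det = 1) (x : Fin 6 → F) : q6 (act c M *ᵥ x) = q6 x := by
  rw [← pf_T hc, T_act hc h2, pf_wedge, hM, one_mul, pf_T hc]

omit hc h2 in
theorem det_sl (g : Cfsg.Geo.specialLinear (Fin 4) F) : ((g : GL (Fin 4) F) : Matrix (Fin 4) (Fin 4) F).det = 1 :=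
  congrArg Units.val (MonoidHom.mem_ker.1 g.2)

/-- The homomorphism to the six-dimensional orthogonal group. -/
noncomputable def phi : Cfsg.Geo.specialLinear (Fin 4) F →* O (q6 (F := F)) where
  toFun g := mkO (Matrix.toLin' (act c ((g : GL (Fin 4) F) : Matrix (Fin 4) (Fin 4) F)))
    (Matrix.toLin' (act c (((g⁻¹ : Cfsg.Geo.specialLinear (Fin 4) F) : GL (Fin 4) F) : Matrix (Fin 4) (Fin 4) F)))
    (by rw [← Matrix.toLin'_mul, ← act_mul hc h2, ← Units.val_mul, ← Subgroup.coe_mul, mul_inv_cancel,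
      Subgroup.coe_one, Units.val_one, act_one hc h2, Matrix.toLin'_one])
    (by rw [← Matrix.toLin'_mul, ← act_mul hc h2, ← Units.val_mul, ← Subgroup.coe_mul, inv_mul_cancel,
      Subgroup.coe_one, Units.val_one, act_one hc h2, Matrix.toLin'_one])
    fun x => by rw [Matrix.toLin'_apply, q6_act hc h2 (det_sl g)]
  map_one' := ext_app fun x => by
    rw [app_mkO, Subgroup.coe_one, Units.val_one, act_one hc h2, Matrix.toLin'_one, app_one]; rfl
  map_mul' g g' := ext_app fun x => by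
    simp only [app_mkO, app_mul, Subgroup.coe_mul, Units.val_mul, act_mul hc h2, Matrix.toLin'_apply,
      Matrix.mulVec_mulVec]

theorem app_phi (g : Cfsg.Geo.specialLinear (Fin 4) F) (x : Fin 6 → F) :
    app (phi hc h2 g) x = act c ((g : GL (Fin 4) F) : Matrix (Fin 4) (Fin 4) F) *ᵥ x := by
  rw [phi, MonoidHom.coe_mk, OneHom.coe_mk, app_mkO, Matrix.toLin'_apply]

theorem phi_ker {g : Cfsg.Geo.specialLinear (Fin 4) F} (hg : phi hc h2 g = 1) :
    ∃ μ : F, μ * μ = 1 ∧ ((g : GL (Fin 4) F) : Matrix (Fin 4) (Fin 4) F) = μ • 1 := by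
  set M := ((g : GL (Fin 4) F) : Matrix (Fin 4) (Fin 4) F)
  have h : ∀ p, wedge M *ᵥ p = p := fun p => by
    have hp : T c *ᵥ (T' c *ᵥ p) = p := by rw [Matrix.mulVec_mulVec, TT' hc h2, Matrix.one_mulVec]
    rw [← hp, ← T_act hc h2, ← app_phi hc h2, hg, app_one]
  exact scalar_of_wedge M (fun k _ => h _) (h _)

omit hc h2 in
/-- The alternating matrix with given coordinates. -/
def skew (a : Fin 6 → F) : Matrix (Fin 4) (Fin 4) F :=
  !![0, a 0, a 1, a 2; -a 0, 0, a 3, a 4; -a 1, -a 3, 0, a 5; -a 2, -a 4, -a 5, 0]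

omit hc h2 in
theorem det_skew (a : Fin 6 → F) : (skew a).det = pf a ^ 2 := by
  rw [det_four]
  simp [skew, pf]
  ring

omit hc h2 in
theorem wedge_skew (a p : Fin 6 → F) : wedge (skew a) *ᵥ p = (a ⬝ᵥ p) • a - pf a • CfsgLib.POmega.star p := by
  funext r
  rw [wedge_mulVec]
  fin_cases r <;>
    simp [skew, pr₁, pr₂, Fin.sum_univ_six, pf, CfsgLib.POmega.star, dotProduct] <;> ring

omit hc h2 in
theorem wedge_smul (t : F) (M : Matrix (Fin 4) (Fin 4) F) : wedge (t • M) = (t * t) • wedge M := by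
  ext r s
  simp [wedge]
  ring

omit h2 in
theorem dot_star_T (x y : Fin 6 → F) : (T c *ᵥ x) ⬝ᵥ CfsgLib.POmega.star (T c *ᵥ y) = 2 * (x ⬝ᵥ y) := by
  rw [← pf_polar, ← Matrix.mulVec_add, pf_T hc, pf_T hc, pf_T hc, ← polar_q6]
  rfl

/-- Every pair of reflections whose values have square product is an image. -/
theorem exists_pair {v w : Fin 6 → F} {s : F} (hs : s ≠ 0) (h : q6 v * q6 w = s * s) :
    ∃ g : Cfsg.Geo.specialLinear (Fin 4) F, phi hc h2 g = refl q6 v * refl q6 w := by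
  set a := T c *ᵥ v with ha
  set b := T c *ᵥ w with hb
  have hv : q6 v ≠ 0 := fun e => hs (by rw [e, zero_mul] at h; exact mul_self_eq_zero.1 h.symm)
  have hw : q6 w ≠ 0 := fun e => hs (by rw [e, mul_zero] at h; exact mul_self_eq_zero.1 h.symm)
  set M := s⁻¹ • (skew a * skew (CfsgLib.POmega.star b)) with hM
  have hstar : pf (CfsgLib.POmega.star b) = pf b := by
    simp [pf, CfsgLib.POmega.star]; ring
  have hdet : M.det = 1 := by
    rw [hM, Matrix.det_smul, Fintype.card_fin, Matrix.det_mul, det_skew, det_skew, hstar, ha, hb, pf_T hc, pf_T hc,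
      ← mul_pow, h]
    field_simp
  refine ⟨⟨Matrix.GeneralLinearGroup.mkOfDetNeZero M (by rw [hdet]; exact one_ne_zero),
    MonoidHom.mem_ker.2 (Units.ext (by simpa using hdet))⟩, ext_app fun x => ?_⟩
  have hinj : Function.Injective fun y : Fin 6 → F => T c *ᵥ y := fun y y' e => by
    have := congrArg (fun u => T' c *ᵥ u) e
    simpa only [Matrix.mulVec_mulVec, T'T hc h2, Matrix.one_mulVec] using this
  have hrefl : ∀ u : Fin 6 → F, q6 u ≠ 0 → ∀ y, q6 u • (T c *ᵥ app (refl q6 u) y) =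
      q6 u • (T c *ᵥ y) - (2 * (y ⬝ᵥ u)) • (T c *ᵥ u) := fun u hu y => by
    rw [app_refl, polar_q6, Matrix.mulVec_sub, Matrix.mulVec_smul, smul_sub, smul_smul, mul_inv_cancel_left₀ hu]
  have step1 : wedge (skew (CfsgLib.POmega.star b)) *ᵥ (T c *ᵥ x) =
      -(q6 w • CfsgLib.POmega.star (T c *ᵥ app (refl q6 w) x)) := by
    have hlin : ∀ (t : F) (p r : Fin 6 → F), CfsgLib.POmega.star (t • p - r) =
        t • CfsgLib.POmega.star p - CfsgLib.POmega.star r := fun t p r => by
      funext k; fin_cases k <;> simp [CfsgLib.POmega.star] <;> ring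
    have hlin' : ∀ (t : F) (p : Fin 6 → F), CfsgLib.POmega.star (t • p) = t • CfsgLib.POmega.star p := fun t p => by
      funext k; fin_cases k <;> simp [CfsgLib.POmega.star]
    rw [wedge_skew, hstar, ← hlin' (q6 w), hrefl w hw, hlin, hlin', hb, pf_T hc,
      dotProduct_comm, dot_star_T hc]
    abel
  have step2 : ∀ y, wedge (skew a) *ᵥ CfsgLib.POmega.star (T c *ᵥ y) = -(q6 v • (T c *ᵥ app (refl q6 v) y)) := by
    intro y
    rw [wedge_skew, CfsgLib.POmega.star_star, hrefl v hv, ha, pf_T hc, dot_star_T hc, dotProduct_comm v y]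
    abel
  refine hinj ?_
  show T c *ᵥ app (phi hc h2 _) x = _
  rw [app_phi hc h2, T_act hc h2, app_mul]
  show wedge M *ᵥ _ = _
  rw [hM, wedge_smul, wedge_mul, Matrix.smul_mulVec, ← Matrix.mulVec_mulVec, step1, Matrix.mulVec_neg,
    Matrix.mulVec_smul, step2]
  simp only [smul_neg, neg_neg, smul_smul]
  rw [show s⁻¹ * s⁻¹ * (q6 w * q6 v) = 1 by rw [mul_comm (q6 w), h]; field_simp, one_smul]

end CfsgLib.FrameSix
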