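import Cfsg.Agent.Lib.FrameSix.Model
import Cfsg.Agent.Lib.PrimeElusive.SymplGroups

/-!
The normaliser of a symplectic-type group of order 64 with centre of order 4 in `SL₄` as the group of elements
permuting the six frame lines.
-/

set_option autoImplicit false
set_option linter.unusedSectionVars false

namespace CfsgLib.FrameSix

open Matrix CfsgLib.Orth CfsgLib.POmega CfsgLib.GeomClasses.Frame CfsgLib.PrimeElusive.SymplType

open scoped MatrixGroups

variable {F : Type*} [Field F]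

local notation "bs" => (fun k : Fin 6 => (Pi.single k 1 : Fin 6 → F))

/-- The first involution. -/
def A0 : Matrix (Fin 4) (Fin 4) F := !![1, 0, 0, 0; 0, 1, 0, 0; 0, 0, -1, 0; 0, 0, 0, -1]

/-- The second involution. -/
def B0 : Matrix (Fin 4) (Fin 4) F := !![0, 0, 1, 0; 0, 0, 0, 1; 1, 0, 0, 0; 0, 1, 0, 0]

/-- The third involution. -/
def C0 : Matrix (Fin 4) (Fin 4) F := !![1, 0, 0, 0; 0, -1, 0, 0; 0, 0, 1, 0; 0, 0, 0, -1]

/-- The fourth involution. -/
def D0 : Matrix (Fin 4) (Fin 4) F := !![0, 1, 0, 0; 1, 0, 0, 0; 0, 0, 0, 1; 0, 0, 1, 0]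

/-- A frame of `R` in standard coordinates. -/
structure Coords (R : Subgroup (GL (Fin 4) F)) (c : F) where
  fr : PrimeElusive.SymplType.Frame R
  P : GL (Fin 4) F
  sq : c * c = -1
  two : (2 : F) ≠ 0
  ea : mt fr.a * mt P = mt P * ((-c) • A0)
  eb : mt fr.b * mt P = mt P * ((-c) • B0)
  ec : mt fr.c * mt P = mt P * C0
  ed : mt fr.d * mt P = mt P * D0
  ci : GL (Fin 4) F
  hci : ci ∈ R
  ei : mt ci = c • 1

variable {R : Subgroup (GL (Fin 4) F)} {c : F} (K : Coords R c) (D : Data R 4)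

/-- Conjugation into the standard coordinates. -/
def Coords.conj : Cfsg.Geo.specialLinear (Fin 4) F →* Cfsg.Geo.specialLinear (Fin 4) F where
  toFun g := ⟨K.P⁻¹ * g * K.P, by
    have := (MonoidHom.normal_ker (Matrix.GeneralLinearGroup.det : GL (Fin 4) F →* Fˣ)).conj_mem
      (g : GL (Fin 4) F) g.2 K.P⁻¹
    rw [inv_inv] at this
    exact this⟩
  map_one' := Subtype.ext (by simp)
  map_mul' g g' := Subtype.ext (by simp only [Subgroup.coe_mul]; group)

/-- The action on the six coordinates. -/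
noncomputable def Coords.psi : Cfsg.Geo.specialLinear (Fin 4) F →* O (q6 (F := F)) :=
  (phi K.sq K.two).comp K.conj

include D

theorem Coords.app_psi (g : Cfsg.Geo.specialLinear (Fin 4) F) (x : Fin 6 → F) :
    app (K.psi g) x = act c (mt K.P⁻¹ * mt (g : GL (Fin 4) F) * mt K.P) *ᵥ x := by
  rw [Coords.psi, MonoidHom.comp_apply, app_phi]
  rfl

theorem Coords.psi_ker {g : Cfsg.Geo.specialLinear (Fin 4) F} (hg : K.psi g = 1) :
    (g : GL (Fin 4) F) ∈ R := by
  obtain ⟨μ, hμ, e⟩ := phi_ker K.sq K.two (g := K.conj g) hg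
  have e1 : mt (g : GL (Fin 4) F) = μ • 1 := by
    have e2 : mt (g : GL (Fin 4) F) = mt K.P * mt ((K.conj g : GL (Fin 4) F)) * mt K.P⁻¹ := by
      rw [show (g : GL (Fin 4) F) = K.P * (K.conj g : GL (Fin 4) F) * K.P⁻¹ by
        show (g : GL (Fin 4) F) = K.P * (K.P⁻¹ * g * K.P) * K.P⁻¹; group]
      simp only [mt, Units.val_mul]
    rw [e2, show mt (K.conj g : GL (Fin 4) F) = μ • 1 from e, Matrix.mul_smul, Matrix.mul_one, Matrix.smul_mul,
      ← Units.val_mul, mul_inv_cancel, Units.val_one]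
  rcases mul_self_eq_one_iff.1 hμ with rfl | rfl
  · rw [show (g : GL (Fin 4) F) = 1 from Units.ext (by rw [Units.val_one]; simpa using e1)]; exact R.one_mem
  · rw [show (g : GL (Fin 4) F) = K.ci * K.ci from Units.ext (by
      rw [Units.val_mul]
      show mt (g : GL (Fin 4) F) = mt K.ci * mt K.ci
      rw [e1, K.ei, smul_mul_smul_comm, K.sq, one_mul])]
    exact R.mul_mem K.hci K.hci

omit D in
theorem psi_of_signs {g : Cfsg.Geo.specialLinear (Fin 4) F} {t : F} {M : Matrix (Fin 4) (Fin 4) F}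
    {L : Finset (Fin 6)} (hg : mt (g : GL (Fin 4) F) * mt K.P = mt K.P * (t • M))
    (hM : ∀ x : Fin 6 → F, wedge M *ᵥ (T c *ᵥ x) =
      T c *ᵥ fun k => if k ∈ L then -((t * t) * x k) else (t * t) * x k)
    (ht : t * t * (t * t) = 1) : K.psi g = (frame_six K.two).sgn L := by
  refine ext_app fun x => funext fun k => ?_
  have e : mt K.P⁻¹ * mt (g : GL (Fin 4) F) * mt K.P = t • M := by
    rw [mul_assoc, hg, ← mul_assoc, ← Units.val_mul, inv_mul_cancel, Units.val_one, one_mul]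
  rw [Coords.psi, MonoidHom.comp_apply, app_phi]
  show (act c (mt K.P⁻¹ * mt (g : GL (Fin 4) F) * mt K.P) *ᵥ x) k = _
  rw [e, act, wedge_smul, Matrix.mul_smul, Matrix.smul_mul, Matrix.smul_mulVec, ← Matrix.mulVec_mulVec,
    ← Matrix.mulVec_mulVec, hM, Matrix.mulVec_mulVec, T'T K.sq K.two, Matrix.one_mulVec]
  have e2 := (frame_six K.two).co_sgn L k x
  rw [co_six K.two, co_six K.two] at e2
  rw [e2, Pi.smul_apply, smul_eq_mul]
  split_ifs
  · linear_combination (-x k) * ht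
  · linear_combination x k * ht

omit D in
theorem mem_SL_of_coords {g : GL (Fin 4) F} {t : F} {M : Matrix (Fin 4) (Fin 4) F}
    (e : mt g * mt K.P = mt K.P * (t • M)) (ht : t * t * (t * t) = 1) (hM : M.det = 1) :
    g ∈ Cfsg.Geo.specialLinear (Fin 4) F := by
  refine MonoidHom.mem_ker.2 (Units.ext ?_)
  have e1 := congrArg Matrix.det e
  rw [Matrix.det_mul, Matrix.det_mul, Matrix.det_smul, hM, Fintype.card_fin, mul_one, mul_comm (mt K.P).det] at e1
  have hP : (mt K.P).det ≠ 0 := (K.P.isUnit.map Matrix.detMonoidHom).ne_zero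
  show (mt g).det = 1
  rw [mul_right_cancel₀ hP e1, ← ht]
  ring

omit D in
/-- An element with an even sign change as image. -/
def Coords.Img (g : GL (Fin 4) F) (L : Finset (Fin 6)) : Prop :=
  ∃ hg : g ∈ Cfsg.Geo.specialLinear (Fin 4) F, K.psi ⟨g, hg⟩ = (frame_six K.two).sgn L

omit D in
theorem img_of_coords {g : GL (Fin 4) F} {t : F} {M : Matrix (Fin 4) (Fin 4) F} {L : Finset (Fin 6)}
    (e : mt g * mt K.P = mt K.P * (t • M)) (ht : t * t * (t * t) = 1) (hM : M.det = 1)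
    (hx : ∀ x : Fin 6 → F, wedge M *ᵥ (T c *ᵥ x) =
      T c *ᵥ fun k => if k ∈ L then -((t * t) * x k) else (t * t) * x k) : K.Img g L :=
  ⟨mem_SL_of_coords K e ht hM, psi_of_signs K e hx ht⟩

omit D in
theorem Coords.img_a : K.Img K.fr.a {0, 1} := by
  refine img_of_coords K K.ea (by linear_combination (c * c - 1) * K.sq) (by rw [det_four]; simp [A0])
    fun x => funext fun k => ?_
  rw [wedge_mulVec]
  fin_cases k <;> simp [A0, T, pr₁, pr₂, Matrix.mulVec, dotProduct, Fin.sum_univ_six, K.sq] <;> ring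

omit D in
theorem Coords.img_b : K.Img K.fr.b {0, 5} := by
  refine img_of_coords K K.eb (by linear_combination (c * c - 1) * K.sq) (by rw [det_four]; simp [B0])
    fun x => funext fun k => ?_
  rw [wedge_mulVec]
  fin_cases k <;> simp [B0, T, pr₁, pr₂, Matrix.mulVec, dotProduct, Fin.sum_univ_six, K.sq] <;> ring

omit D in
theorem Coords.img_c : K.Img K.fr.c {0, 1, 4, 5} := by
  refine img_of_coords K (t := 1) (by rw [one_smul]; exact K.ec) (by ring) (by rw [det_four]; simp [C0])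
    fun x => funext fun k => ?_
  rw [wedge_mulVec]
  fin_cases k <;> simp [C0, T, pr₁, pr₂, Matrix.mulVec, dotProduct, Fin.sum_univ_six] <;> ring

omit D in
theorem Coords.img_d : K.Img K.fr.d {0, 1, 2, 5} := by
  refine img_of_coords K (t := 1) (by rw [one_smul]; exact K.ed) (by ring) (by rw [det_four]; simp [D0])
    fun x => funext fun k => ?_
  rw [wedge_mulVec]
  fin_cases k <;> simp [D0, T, pr₁, pr₂, Matrix.mulVec, dotProduct, Fin.sum_univ_six] <;> ring

omit D in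
theorem Coords.img_scalar {s : GL (Fin 4) F} {μ : F} (hs : mt s = μ • 1) (L : Finset (Fin 6))
    (hμ : (μ * μ = 1 ∧ L = ∅) ∨ (μ * μ = -1 ∧ L = Finset.univ)) : K.Img s L := by
  refine img_of_coords K (t := μ) (M := 1) (by rw [hs, Matrix.smul_mul, Matrix.one_mul, Matrix.mul_smul, Matrix.mul_one])
    (by rcases hμ with ⟨e, -⟩ | ⟨e, -⟩ <;> rw [e] <;> ring) Matrix.det_one fun x => ?_
  rw [wedge_one, Matrix.one_mulVec]
  congr 1
  funext l
  rcases hμ with ⟨e, rfl⟩ | ⟨e, rfl⟩ <;> simp [e]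

omit D in
theorem Coords.img_one : K.Img 1 ∅ :=
  K.img_scalar (μ := 1) (by rw [one_smul]; rfl) ∅ (Or.inl ⟨one_mul 1, rfl⟩)

omit D in
theorem Coords.img_mul {g g' : GL (Fin 4) F} {L L' : Finset (Fin 6)} (h : K.Img g L) (h' : K.Img g' L') :
    K.Img (g * g') (symmDiff L L') := by
  obtain ⟨hg, e⟩ := h
  obtain ⟨hg', e'⟩ := h'
  refine ⟨Subgroup.mul_mem _ hg hg', ?_⟩
  rw [← (frame_six K.two).sgn_mul, ← e, ← e', ← map_mul]
  rfl

omit D in
theorem Coords.img_inv {g : GL (Fin 4) F} {L : Finset (Fin 6)} (h : K.Img g L) : K.Img g⁻¹ L := by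
  obtain ⟨hg, e⟩ := h
  refine ⟨Subgroup.inv_mem _ hg, ?_⟩
  rw [show (⟨g⁻¹, Subgroup.inv_mem _ hg⟩ : Cfsg.Geo.specialLinear (Fin 4) F) = ⟨g, hg⟩⁻¹ from rfl, map_inv, e]
  exact inv_eq_of_mul_eq_one_right (sq_one (frame_six K.two) L)

omit D in
theorem even_span : ∀ L : Finset (Fin 6), L.card % 2 = 0 → ∃ u v w x y : Bool,
    L = symmDiff (symmDiff (symmDiff (symmDiff (if u then ({0, 1} : Finset (Fin 6)) else ∅)
      (if v then {0, 5} else ∅)) (if w then {0, 1, 4, 5} else ∅)) (if x then {0, 1, 2, 5} else ∅))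
      (if y then Finset.univ else ∅) := by decide +kernel

omit D in
/-- Every even sign change is the image of an element of `R`. -/
theorem Coords.signs {L : Finset (Fin 6)} (hL : L.card % 2 = 0) :
    ∃ (g : GL (Fin 4) F) (hg : g ∈ Cfsg.Geo.specialLinear (Fin 4) F), g ∈ R ∧
      K.psi ⟨g, hg⟩ = (frame_six K.two).sgn L := by
  have hite : ∀ (u : Bool) (x : GL (Fin 4) F) (M : Finset (Fin 6)), x ∈ R → K.Img x M →
      ∃ y ∈ R, K.Img y (if u then M else ∅) := by
    intro u x M hx hM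
    cases u
    · exact ⟨1, R.one_mem, K.img_one⟩
    · exact ⟨x, hx, hM⟩
  obtain ⟨u, v, w, x, y, rfl⟩ := even_span L hL
  obtain ⟨g1, r1, e1⟩ := hite u _ _ K.fr.ha K.img_a
  obtain ⟨g2, r2, e2⟩ := hite v _ _ K.fr.hb K.img_b
  obtain ⟨g3, r3, e3⟩ := hite w _ _ K.fr.hc K.img_c
  obtain ⟨g4, r4, e4⟩ := hite x _ _ K.fr.hd K.img_d
  obtain ⟨g5, r5, e5⟩ := hite y _ _ K.hci (K.img_scalar K.ei _ (Or.inr ⟨K.sq, rfl⟩))
  obtain ⟨hg, e⟩ := K.img_mul (K.img_mul (K.img_mul (K.img_mul e1 e2) e3) e4) e5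
  exact ⟨_, hg, R.mul_mem (R.mul_mem (R.mul_mem (R.mul_mem r1 r2) r3) r4) r5, e⟩

/-- The image of an element of `R` is a sign change. -/
theorem Coords.sign_of_mem {g : GL (Fin 4) F} (hg : g ∈ R) : ∃ L, L.card % 2 = 0 ∧ K.Img g L := by
  classical
  have hsym : ∀ A B : Finset (Fin 6), A.card % 2 = 0 → B.card % 2 = 0 → (symmDiff A B).card % 2 = 0 := by
    intro A B hA hB
    have h1 := Finset.card_sdiff_add_card_inter A B
    have h2 := Finset.card_sdiff_add_card_inter B A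
    rw [Finset.inter_comm] at h2
    rw [symmDiff_def, Finset.sup_eq_union, Finset.card_union_of_disjoint disjoint_sdiff_sdiff]
    omega
  obtain ⟨s, k, hsR, ⟨μ, hμ⟩, hk, rfl⟩ := K.fr.eq_scalar_mul D hg
  obtain ⟨L', hL', es⟩ : ∃ L, L.card % 2 = 0 ∧ K.Img s L := by
    have hμ2 : μ * μ = 1 ∨ μ * μ = -1 := by
      rcases D.sq s hsR with e1 | e1 <;> rw [show mt s = μ • 1 from hμ, smul_mul_smul_comm, one_mul] at e1 <;>
        [left; right] <;> simpa using congrFun (congrFun e1 0) 0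
    rcases hμ2 with h | h
    · exact ⟨∅, rfl, K.img_scalar hμ ∅ (Or.inl ⟨h, rfl⟩)⟩
    · exact ⟨Finset.univ, rfl, K.img_scalar hμ _ (Or.inr ⟨h, rfl⟩)⟩
  obtain ⟨L, hL, ek⟩ : ∃ L, L.card % 2 = 0 ∧ K.Img k L := by
    clear es hg
    induction hk using Subgroup.closure_induction with
    | mem x hx =>
      simp only [Set.mem_insert_iff, Set.mem_singleton_iff] at hx
      rcases hx with rfl | rfl | rfl | rfl
      exacts [⟨_, rfl, K.img_a⟩, ⟨_, rfl, K.img_b⟩, ⟨_, rfl, K.img_c⟩, ⟨_, rfl, K.img_d⟩]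
    | one => exact ⟨∅, rfl, K.img_one⟩
    | mul x y _ _ hx hy =>
      obtain ⟨L₁, h₁, e₁⟩ := hx
      obtain ⟨L₂, h₂, e₂⟩ := hy
      exact ⟨_, hsym _ _ h₁ h₂, K.img_mul e₁ e₂⟩
    | inv x _ hx =>
      obtain ⟨L₁, h₁, e₁⟩ := hx
      exact ⟨L₁, h₁, K.img_inv e₁⟩
  exact ⟨_, hsym _ _ hL' hL, K.img_mul es ek⟩

/-- The normaliser is the preimage of the signed permutations. -/
theorem Coords.mem_normalizer_iff (g : Cfsg.Geo.specialLinear (Fin 4) F) :
    (g : GL (Fin 4) F) ∈ Cfsg.Geo.subgroupNormalizer R ↔ Mono bs (K.psi g) := by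
  have h := frame_six (F := F) K.two
  constructor
  · intro hg
    have hconj : ∀ i j : Fin 6, i ≠ j → ∃ L, L.card = 2 ∧ K.psi g * h.sgn {i, j} * (K.psi g)⁻¹ = h.sgn L := by
      intro i j hij
      obtain ⟨r, hr, hrR, er⟩ := K.signs (L := {i, j}) (by rw [Finset.card_pair hij])
      obtain ⟨L, -, _, eL⟩ := K.sign_of_mem D ((Subgroup.mem_normalizer_iff.1 hg r).1 hrR)
      rw [show K.psi ⟨(g : GL (Fin 4) F) * r * (g : GL (Fin 4) F)⁻¹, by assumption⟩ = K.psi (g * ⟨r, hr⟩ * g⁻¹)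
        from rfl] at eL
      rw [map_mul, map_mul, map_inv, er] at eL
      exact ⟨L, by rw [← card_eq_of_conj h eL, Finset.card_pair hij], eL⟩
    intro k
    obtain ⟨l, m, hlk, hmk, hlm⟩ : ∃ l m : Fin 6, l ≠ k ∧ m ≠ k ∧ l ≠ m := by
      revert k; decide
    obtain ⟨K₁, c₁, e₁⟩ := hconj k l hlk.symm
    obtain ⟨K₂, c₂, e₂⟩ := hconj k m hmk.symm
    have hne : K₁ ≠ K₂ := fun e => by
      have e3 := h.sgn_inj (mul_left_cancel (mul_right_cancel (e₁.trans ((congrArg h.sgn e).trans e₂.symm))))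
      have hmem : l ∈ ({k, m} : Finset (Fin 6)) := e3 ▸ by simp
      simp [hlk, hlm] at hmem
    have hsupp : ∀ o, co q6 bs 1 o (app (K.psi g) (Pi.single k 1)) ≠ 0 → o ∈ K₁ ∧ o ∈ K₂ := by
      intro o ho
      have hin : ∀ (l' : Fin 6) L, K.psi g * h.sgn {k, l'} * (K.psi g)⁻¹ = h.sgn L → o ∈ L := by
        intro l' L e
        by_contra hn
        have := congrArg (fun t => co q6 bs 1 o (app t (app (K.psi g) (bs k)))) e
        simp only [app_mul, app_inv_app, h.co_sgn, if_neg hn] at this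
        rw [show (Pi.single k (1 : F) : Fin 6 → F) = bs k from rfl, h.sgn_b, if_pos (by simp), map_neg, co_neg] at this
        exact ho ((mul_eq_zero.1 (show 2 * co q6 bs 1 o (app (K.psi g) (Pi.single k 1)) = 0 by
          linear_combination -this)).resolve_left h.two)
      exact ⟨hin l _ e₁, hin m _ e₂⟩
    obtain ⟨p, hp⟩ : ∃ p, co q6 bs 1 p (app (K.psi g) (Pi.single k 1)) ≠ 0 := by
      by_contra hn
      push Not at hn
      have e := h.sum_sq (x := app (K.psi g) (bs k)) (by rw [Q_app, h.val])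
      simp [hn] at e
    refine ⟨p, unit_line h (by rw [Q_app, h.val]) fun o ho => ?_⟩
    by_contra hn
    have hsub : ({p, o} : Finset (Fin 6)) ⊆ K₁ ∩ K₂ := by
      intro t ht
      simp only [Finset.mem_insert, Finset.mem_singleton] at ht
      rcases ht with rfl | rfl
      · exact Finset.mem_inter.2 (hsupp _ hp)
      · exact Finset.mem_inter.2 (hsupp _ hn)
    have e1 := Finset.eq_of_subset_of_card_le (hsub.trans Finset.inter_subset_left)
      (by rw [c₁, Finset.card_pair (Ne.symm ho)])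
    have e2 := Finset.eq_of_subset_of_card_le (hsub.trans Finset.inter_subset_right)
      (by rw [c₂, Finset.card_pair (Ne.symm ho)])
    exact hne (e1.symm.trans e2)
  · intro hg
    have key : ∀ x : GL (Fin 4) F, ∀ hx : x ∈ Cfsg.Geo.specialLinear (Fin 4) F, x ∈ R →
        (g : GL (Fin 4) F) * x * (g : GL (Fin 4) F)⁻¹ ∈ R := by
      intro x hx hxR
      obtain ⟨L, hL, _, eL⟩ := K.sign_of_mem D hxR
      obtain ⟨L', hL', eL'⟩ := h.sgn_conj hg L
      obtain ⟨r, hr, hrR, er⟩ := K.signs (L := L') (by rw [hL']; exact hL)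
      have hk : K.psi (g * ⟨x, hx⟩ * g⁻¹ * (⟨r, hr⟩ : Cfsg.Geo.specialLinear (Fin 4) F)⁻¹) = 1 := by
        rw [map_mul, map_mul, map_mul, map_inv, map_inv, eL, er, eL', mul_inv_cancel]
      have := R.mul_mem (K.psi_ker D hk) hrR
      simpa [mul_assoc] using this
    exact K.fr.mem_normalizer D (key _ K.img_a.1 K.fr.ha) (key _ K.img_b.1 K.fr.hb) (key _ K.img_c.1 K.fr.hc)
      (key _ K.img_d.1 K.fr.hd)

end CfsgLib.FrameSix
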